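import Groth.Agent.ModPairLib.Charts
import Mathlib.AlgebraicGeometry.RelativeGluing
import Mathlib.AlgebraicGeometry.Morphisms.Proper

/-!
Blowing ups are local on the base: base change, uniqueness, gluing.
-/

set_option autoImplicit false
universe u

open CategoryTheory Limits AlgebraicGeometry TopologicalSpace

namespace Groth.Agent.ModPairLib

variable {X Y Z U : Scheme.{u}}

theorem isEffCartier_comap_flat {I : X.IdealSheafData} (hI : BlowUp.IsEffCartierIdeal I) (f : Y ⟶ X)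
    [Flat f] : BlowUp.IsEffCartierIdeal (I.comap f) := by
  haveI := std_interior hI
  haveI := isAffineHom_interior hI
  haveI : IsSchemeTheoreticallyDominant (f ⁻¹ᵁ ModPair.interior I).ι :=
    IsSchemeTheoreticallyDominant.of_isPullback (isPullback_morphismRestrict f (ModPair.interior I)).flip.flip
  exact isEffCartier_comap hI f

theorem isEffCartier_of_local {I : X.IdealSheafData}
    (h : ∀ x : X, ∃ (V : Scheme.{u}) (j : V ⟶ X) (_ : IsOpenImmersion j), x ∈ Set.range j.base ∧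
      BlowUp.IsEffCartierIdeal (I.comap j)) :
    BlowUp.IsEffCartierIdeal I := fun x => by
  obtain ⟨V, j, _, ⟨v, rfl⟩, hV⟩ := h x
  obtain ⟨W, hvW, g, hg0, hg⟩ := hV v
  refine ⟨⟨j ''ᵁ W.1, W.2.image_of_isOpenImmersion j⟩, ⟨v, hvW, rfl⟩, (j.appIso W.1).inv.hom g, ?_, ?_⟩
  · exact mem_nonZeroDivisors_of_injective (f := (j.appIso W.1).hom.hom)
      (ConcreteCategory.bijective_of_isIso (j.appIso W.1).hom).1
      (by simpa [← CommRingCat.comp_apply] using hg0)
  · rw [Scheme.IdealSheafData.ideal_comap_of_isOpenImmersion] at hg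
    have := congrArg (Ideal.map (j.appIso W.1).inv.hom) hg
    rwa [Ideal.map_comap_of_surjective _ (ConcreteCategory.bijective_of_isIso (j.appIso W.1).inv).2,
      Ideal.map_span, Set.image_singleton] at this

variable {C : X.IdealSheafData}

theorem isBlowUp_baseChange {b : Y ⟶ X} (hb : BlowUp.IsBlowUp b C) (j : U ⟶ X) [Flat j] :
    BlowUp.IsBlowUp (pullback.snd b j) (C.comap j) := by
  refine ⟨?_, fun Z g hg => ?_⟩
  · rw [← Scheme.IdealSheafData.comap_comp, ← pullback.condition, Scheme.IdealSheafData.comap_comp]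
    exact isEffCartier_comap_flat hb.1 _
  · rw [← Scheme.IdealSheafData.comap_comp] at hg
    obtain ⟨h, hh, huniq⟩ := hb.2 Z (g ≫ j) hg
    refine ⟨pullback.lift h g hh, pullback.lift_snd _ _ _, fun y hy => ?_⟩
    have hy' : y ≫ pullback.snd b j = g := hy
    refine pullback.hom_ext ?_ (by rw [pullback.lift_snd]; exact hy')
    rw [pullback.lift_fst]
    exact huniq _ (show _ = _ by rw [Category.assoc, pullback.condition, reassoc_of% hy'])

/-- Blowing ups are unique. -/
theorem exists_iso_of_isBlowUp {Y' : Scheme.{u}} {b : Y ⟶ X} {b' : Y' ⟶ X} (h : BlowUp.IsBlowUp b C)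
    (h' : BlowUp.IsBlowUp b' C) : ∃ e : Y ≅ Y', e.hom ≫ b' = b := by
  obtain ⟨f, hf, -⟩ := h'.2 Y b h.1
  obtain ⟨g, hg, -⟩ := h.2 Y' b' h'.1
  obtain ⟨_, -, hu⟩ := h.2 Y b h.1
  obtain ⟨_, -, hu'⟩ := h'.2 Y' b' h'.1
  refine ⟨⟨f, g, (hu _ (show _ = _ by rw [Category.assoc, hg, hf])).trans (hu _ (Category.id_comp b)).symm,
    (hu' _ (show _ = _ by rw [Category.assoc, hf, hg])).trans (hu' _ (Category.id_comp b')).symm⟩, hf⟩

/-- The base change square of blowing ups along an open immersion is a pullback. -/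
theorem isPullback_of_isBlowUp {Y' : Scheme.{u}} {b : Y ⟶ X} (h : BlowUp.IsBlowUp b C) (j : U ⟶ X)
    [Flat j] {b' : Y' ⟶ U} (h' : BlowUp.IsBlowUp b' (C.comap j)) (φ : Y' ⟶ Y) (hφ : φ ≫ b = b' ≫ j) :
    IsPullback φ b' b j := by
  obtain ⟨e, he⟩ := exists_iso_of_isBlowUp h' (isBlowUp_baseChange h j)
  refine IsPullback.of_iso_pullback ⟨hφ⟩ e ?_ he
  obtain ⟨k, -, hk⟩ := h.2 Y' (b' ≫ j) (by rw [Scheme.IdealSheafData.comap_comp]; exact h'.1)
  exact (hk _ (show _ = _ by rw [Category.assoc, pullback.condition, reassoc_of% he])).trans (hk _ hφ).symm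

variable (C)

/-- A blowing up over an affine open, with an extra property. -/
structure LocalBlow (P : MorphismProperty Scheme.{u}) (V : X.affineOpens) where
  obj : Scheme.{u}
  hom : obj ⟶ V.1
  isBlowUp : BlowUp.IsBlowUp hom (C.comap V.1.ι)
  prop : P hom

variable {C} {P : MorphismProperty Scheme.{u}} [IsZariskiLocalAtTarget P] [P.IsStableUnderBaseChange]

theorem nonempty_localBlow_of_le {U : X.Opens} {b : Y ⟶ U} (hb : BlowUp.IsBlowUp b (C.comap U.ι)) (hP : P b)
    (V : X.affineOpens) (h : V.1 ≤ U) : Nonempty (LocalBlow C P V) := by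
  refine ⟨⟨_, pullback.snd b (X.homOfLE h), ?_, P.pullback_snd _ _ hP⟩⟩
  have := isBlowUp_baseChange hb (X.homOfLE h)
  rwa [← Scheme.IdealSheafData.comap_comp, X.homOfLE_ι] at this

variable (C P)

/-- Affine opens over which a blowing up exists. -/
def GoodOpen : Type u := {V : X.affineOpens // Nonempty (LocalBlow C P V)}

instance : Preorder (GoodOpen C P) := inferInstanceAs (Preorder {V : X.affineOpens // _})

noncomputable def GoodOpen.blow (V : GoodOpen C P) : LocalBlow C P V.1 := Classical.choice V.2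

variable (hloc : ∀ x : X, ∃ (U : X.Opens) (Y : Scheme.{u}) (b : Y ⟶ (U : Scheme.{u})),
    x ∈ U ∧ BlowUp.IsBlowUp b (C.comap U.ι) ∧ P b)

include hloc in
theorem isBasis_goodOpen : Opens.IsBasis (Set.range fun V : GoodOpen C P => V.1.1) := by
  refine Opens.isBasis_iff_nbhd.2 fun {W x} hx => ?_
  obtain ⟨U, Y, b, hxU, hb, hP⟩ := hloc x
  obtain ⟨V, hV, hxV, hVle⟩ := exists_isAffineOpen_mem_and_subset (U := U ⊓ W) (x := x) ⟨hxU, hx⟩
  exact ⟨V, ⟨⟨⟨V, hV⟩, nonempty_localBlow_of_le hb hP ⟨V, hV⟩ fun y hy => (hVle hy).1⟩, rfl⟩, hxV,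
    fun y hy => (hVle hy).2⟩

omit C P in
/-- Gluing blowing ups over a directed cover. -/
theorem exists_blowUp_of_directed (C : X.IdealSheafData) (P : MorphismProperty Scheme.{u}) [IsZariskiLocalAtTarget P]
    (𝒰 : X.OpenCover) [Category.{u} 𝒰.I₀] [𝒰.LocallyDirected] [Quiver.IsThin 𝒰.I₀] [Small.{u} 𝒰.I₀]
    (Y : 𝒰.I₀ → Scheme.{u}) (b : ∀ i, Y i ⟶ 𝒰.X i)
    (hb : ∀ i, BlowUp.IsBlowUp (b i) (C.comap (𝒰.f i))) (hP : ∀ i, P (b i)) :
    ∃ (Z : Scheme.{u}) (β : Z ⟶ X), BlowUp.IsBlowUp β C ∧ P β := by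
  classical
  have hC : ∀ {i j : 𝒰.I₀} (h : i ⟶ j),
      BlowUp.IsEffCartierIdeal ((C.comap (𝒰.f j)).comap (b i ≫ 𝒰.trans h)) :=
    fun {i j} h => by
      rw [← Scheme.IdealSheafData.comap_comp, Category.assoc, 𝒰.trans_map h, Scheme.IdealSheafData.comap_comp]
      exact (hb i).1
  choose φ hφ hφu using fun (i j : 𝒰.I₀) (h : i ⟶ j) => (hb j).2 _ (b i ≫ 𝒰.trans h) (hC h)
  let F : 𝒰.I₀ ⥤ Scheme.{u} :=
    { obj := Y
      map := fun {i j} h => φ i j h
      map_id := fun i => (hφu i i (𝟙 i) _ (show _ = _ by simp)).symm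
      map_comp := fun {i j k} h h' => (hφu i k (h ≫ h') _ (show _ = _ by
        have h1 : φ i j h ≫ b j = _ := hφ i j h
        have h2 : φ j k h' ≫ b k = _ := hφ j k h'
        rw [Category.assoc, h2, reassoc_of% h1, Scheme.Cover.trans_comp])).symm }
  let d : 𝒰.RelativeGluingData :=
    { functor := F
      natTrans := { app := b, naturality := fun i j h => hφ i j h }
      equifibered := fun i j h => by
        refine isPullback_of_isBlowUp (hb j) (𝒰.trans h) ?_ (φ i j h) (hφ i j h)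
        rw [← Scheme.IdealSheafData.comap_comp, 𝒰.trans_map h]
        exact hb i }
  haveI hdopen : ∀ {i j : 𝒰.I₀} (h : i ⟶ j), IsOpenImmersion (d.functor.map h) := fun {i j} h =>
    haveI : IsOpenImmersion (𝒰.trans h) := inferInstance
    MorphismProperty.of_isPullback (P := @IsOpenImmersion) (d.equifibered h).flip this
  haveI : (d.functor ⋙ Scheme.forget).IsLocallyDirected :=
    Scheme.isLocallyDirected_of_equifibered_of_injective d.natTrans d.equifibered fun h => (d.functor.map h).injective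
  have hsq := fun i => d.isPullback_natTrans_ι_toBase i
  refine ⟨d.glued, d.toBase, ⟨?_, fun Z g hg => ?_⟩, ?_⟩
  · refine isEffCartier_of_local fun y => ?_
    obtain ⟨(i : 𝒰.I₀), z, rfl⟩ := d.cover.exists_eq y
    refine ⟨_, colimit.ι d.functor i, inferInstance, ⟨z, rfl⟩, ?_⟩
    rw [← Scheme.IdealSheafData.comap_comp, d.ι_toBase]
    exact (congrArg BlowUp.IsEffCartierIdeal (Scheme.IdealSheafData.comap_comp C (b i) (𝒰.f i))).mpr (hb i).1
  · have hgi : ∀ i : 𝒰.I₀, BlowUp.IsEffCartierIdeal ((C.comap (𝒰.f i)).comap (pullback.snd g (𝒰.f i))) :=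
      fun i => by
        rw [← Scheme.IdealSheafData.comap_comp, ← pullback.condition, Scheme.IdealSheafData.comap_comp]
        exact isEffCartier_comap_flat hg _
    choose l hl hlu using fun i => (hb i).2 _ (pullback.snd g (𝒰.f i)) (hgi i)
    let 𝒱 := 𝒰.pullback₁ g
    have hcomp : ∀ {i j : 𝒰.I₀} (h : i ⟶ j), Scheme.Cover.trans 𝒱 h ≫ l j = l i ≫ φ i j h := fun {i j} h => by
      have hj : l j ≫ b j = _ := hl j
      have hi : l i ≫ b i = _ := hl i
      have hp : φ i j h ≫ b j = _ := hφ i j h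
      have e : Scheme.Cover.trans 𝒱 h ≫ pullback.snd g (𝒰.f j) = pullback.snd g (𝒰.f i) ≫ 𝒰.trans h :=
        pullback.lift_snd _ _ _
      obtain ⟨k, -, hk⟩ := (hb j).2 _ (pullback.snd g (𝒰.f i) ≫ 𝒰.trans h) (by
        rw [← Scheme.IdealSheafData.comap_comp, Category.assoc, 𝒰.trans_map h, Scheme.IdealSheafData.comap_comp]
        exact hgi i)
      exact (hk _ ((Category.assoc _ _ _).trans ((congrArg (Scheme.Cover.trans 𝒱 h ≫ ·) hj).trans e))).trans
        (hk _ (show _ = _ by rw [Category.assoc, hp, reassoc_of% hi])).symm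
    let L : Z ⟶ d.glued := Scheme.OpenCover.glueMorphismsOfLocallyDirected 𝒱 (fun i => l i ≫ colimit.ι d.functor i)
      (fun {i j} h => (Category.assoc _ _ _).symm.trans ((congrArg (· ≫ colimit.ι d.functor j) (hcomp h)).trans
        ((Category.assoc _ _ _).trans (congrArg (l i ≫ ·) (colimit.w d.functor h)))))
    have hLi : ∀ i : 𝒰.I₀, pullback.fst g (𝒰.f i) ≫ L = l i ≫ colimit.ι d.functor i :=
      fun i => Scheme.OpenCover.map_glueMorphismsOfLocallyDirected 𝒱 _ _ i
    have hL : L ≫ d.toBase = g := by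
      refine Scheme.Cover.hom_ext 𝒱 _ _ fun (i : 𝒰.I₀) => ?_
      show pullback.fst g (𝒰.f i) ≫ L ≫ d.toBase = pullback.fst g (𝒰.f i) ≫ g
      have hi : l i ≫ b i = _ := hl i
      rw [reassoc_of% (hLi i), d.ι_toBase, pullback.condition]
      exact (Category.assoc _ _ _).symm.trans (congrArg (· ≫ 𝒰.f i) hi)
    refine ⟨L, hL, fun y hy => Scheme.Cover.hom_ext 𝒱 _ _ fun (i : 𝒰.I₀) => ?_⟩
    have hy' : y ≫ d.toBase = g := hy
    show pullback.fst g (𝒰.f i) ≫ y = pullback.fst g (𝒰.f i) ≫ L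
    rw [hLi]
    obtain ⟨m, hm1, hm2⟩ := (hsq i).exists_lift (pullback.snd g (𝒰.f i)) (pullback.fst g (𝒰.f i) ≫ y)
      (by rw [Category.assoc, hy']; exact pullback.condition.symm)
    rw [← hm2, hlu i m hm1]
  · refine IsZariskiLocalAtTarget.of_openCover 𝒰 fun i => ?_
    have e : IsPullback (pullback.fst d.toBase (𝒰.f i)) (pullback.snd _ _) d.toBase (𝒰.f i) :=
      IsPullback.of_hasPullback _ _
    refine (P.arrow_mk_iso_iff ?_).1 (hP i)
    exact Arrow.isoMk ((hsq i).flip.isoIsPullback _ _ e) (Iso.refl _)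
      ((IsPullback.isoIsPullback_hom_snd _ _ (hsq i).flip e).trans (Category.comp_id _).symm)

include hloc in
theorem exists_blowUp_of_local :
    ∃ (Y : Scheme.{u}) (b : Y ⟶ X), BlowUp.IsBlowUp b C ∧ P b := by
  classical
  let 𝒰 : X.OpenCover :=
    { I₀ := GoodOpen C P
      X := fun V => V.1.1
      f := fun V => V.1.1.ι
      mem₀ := by
        rw [Scheme.presieve₀_mem_precoverage_iff]
        refine ⟨fun x => ?_, inferInstance⟩
        obtain ⟨U', ⟨V, rfl⟩, hxV, -⟩ := Opens.isBasis_iff_nbhd.1 (isBasis_goodOpen C P hloc) (U := ⊤) (x := x) trivial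
        exact ⟨V, by simpa using hxV⟩ }
  letI : Preorder 𝒰.I₀ := inferInstanceAs (Preorder (GoodOpen C P))
  letI : 𝒰.LocallyDirected := Scheme.Cover.LocallyDirected.ofIsBasisOpensRange
    (by intro i j; simp [𝒰]; rfl) (by simpa [𝒰] using isBasis_goodOpen C P hloc)
  haveI : Quiver.IsThin 𝒰.I₀ := fun a b => inferInstanceAs (Subsingleton (ULift (PLift (a ≤ b))))
  haveI : Small.{u} 𝒰.I₀ := small_self _
  exact exists_blowUp_of_directed C P 𝒰 _ (fun i => (GoodOpen.blow C P i).hom)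
    (fun i => (GoodOpen.blow C P i).isBlowUp) (fun i => (GoodOpen.blow C P i).prop)

end Groth.Agent.ModPairLib
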