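import Groth.Agent.ModPairLib.Basic
import Mathlib.AlgebraicGeometry.Morphisms.Proper

/-!
Schematic closure of the interior, admissible blow-ups, base change.
-/

set_option autoImplicit false
universe u

open CategoryTheory Limits AlgebraicGeometry

namespace Groth.Agent.ModPairLib

variable {X Y Z P : Scheme.{u}}

theorem std_toImage (f : X ⟶ Y) [QuasiCompact f] : IsSchemeTheoreticallyDominant f.toImage := by
  refine ⟨Scheme.IdealSheafData.ext_of_iSup_eq_top
    (fun U : Y.affineOpens => ⟨f.imageι ⁻¹ᵁ U.1, U.2.preimage f.imageι⟩) ?_ fun U => ?_⟩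
  · exact top_unique fun z _ => by
      have := (iSup_affineOpens_eq_top Y).ge (Set.mem_univ (f.imageι.base z))
      obtain ⟨U, hU⟩ := TopologicalSpace.Opens.mem_iSup.1 this
      exact TopologicalSpace.Opens.mem_iSup.2 ⟨U, hU⟩
  · rw [Scheme.Hom.ker_apply, Scheme.IdealSheafData.ideal_bot]
    exact (RingHom.injective_iff_ker_eq_bot _).1 (Scheme.Hom.toImage_app_injective f U)

/-- The preimage of `U` in the schematic closure of `U` is schematically dense. -/
theorem std_preimage_image (U : P.Opens) [QuasiCompact U.ι] :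
    IsSchemeTheoreticallyDominant (U.ι.imageι ⁻¹ᵁ U).ι := by
  haveI := std_toImage U.ι
  have hr : Set.range U.ι.toImage.base ⊆ Set.range (U.ι.imageι ⁻¹ᵁ U).ι.base := by
    rintro _ ⟨x, rfl⟩
    rw [Scheme.Opens.range_ι]
    show (U.ι.toImage ≫ U.ι.imageι).base x ∈ U
    rw [U.ι.toImage_imageι]
    exact x.2
  refine ⟨le_bot_iff.1 ?_⟩
  have := (IsOpenImmersion.lift (U.ι.imageι ⁻¹ᵁ U).ι U.ι.toImage hr).le_ker_comp (U.ι.imageι ⁻¹ᵁ U).ι
  rwa [IsOpenImmersion.lift_fac, U.ι.toImage.ker_eq_bot] at this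

theorem isIso_imageι_restrict (U : P.Opens) : IsIso (U.ι.imageι ∣_ U) := by
  have hfac : Scheme.Hom.toImage U.ι ≫ Scheme.Hom.imageι U.ι = U.ι := Scheme.Hom.toImage_imageι _
  have hsq : IsPullback (𝟙 (U : Scheme.{u})) (Scheme.Hom.toImage U.ι) U.ι (Scheme.Hom.imageι U.ι) :=
    ⟨⟨(Category.id_comp _).trans hfac.symm⟩, ⟨PullbackCone.IsLimit.mk _ (fun s => s.fst)
      (fun s => Category.comp_id _) (fun s => (cancel_mono (Scheme.Hom.imageι U.ι)).1
        ((Category.assoc _ _ _).trans ((congrArg (s.fst ≫ ·) hfac).trans s.condition)))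
      (fun s m h _ => (Category.comp_id m).symm.trans h)⟩⟩
  exact IsIso.of_isIso_fac_left
    (IsPullback.isoIsPullback_hom_fst _ _ hsq (isPullback_morphismRestrict (Scheme.Hom.imageι U.ι) U))

/-- Closure of the preimage of the interior. -/
theorem isEffCartier_closure {J : Y.IdealSheafData} (hJ : BlowUp.IsEffCartierIdeal J) (p : P ⟶ Y) :
    BlowUp.IsEffCartierIdeal (J.comap ((p ⁻¹ᵁ ModPair.interior J).ι.imageι ≫ p)) := by
  haveI := isAffineHom_preimage hJ p
  haveI : IsSchemeTheoreticallyDominant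
      (((p ⁻¹ᵁ ModPair.interior J).ι.imageι ≫ p) ⁻¹ᵁ ModPair.interior J).ι := by
    rw [Scheme.Hom.comp_preimage]
    exact std_preimage_image _
  exact isEffCartier_comap hJ _

theorem isAdmBlowup_closure {J : Y.IdealSheafData} (p : P ⟶ Y) [IsProper p]
    [IsIso (p ∣_ ModPair.interior J)] :
    ModPair.IsAdmBlowup (J.comap ((p ⁻¹ᵁ ModPair.interior J).ι.imageι ≫ p)) J
      ((p ⁻¹ᵁ ModPair.interior J).ι.imageι ≫ p) := by
  refine ⟨rfl, inferInstance, ?_⟩
  have h1 := isIso_imageι_restrict (p ⁻¹ᵁ ModPair.interior J)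
  rw [morphismRestrict_comp]
  exact IsIso.comp_isIso' h1 inferInstance

theorem isAdmBlowup_id (I : X.IdealSheafData) : ModPair.IsAdmBlowup I I (𝟙 X) :=
  ⟨(Scheme.IdealSheafData.comap_id I).symm, inferInstance, inferInstance⟩

theorem isAdmBlowup_comp {I : X.IdealSheafData} {J : Y.IdealSheafData} {K : Z.IdealSheafData}
    {f : X ⟶ Y} {g : Y ⟶ Z} (hf : ModPair.IsAdmBlowup I J f) (hg : ModPair.IsAdmBlowup J K g) :
    ModPair.IsAdmBlowup I K (f ≫ g) := by
  obtain ⟨hf1, hf2, hf3⟩ := hf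
  obtain ⟨hg1, hg2, hg3⟩ := hg
  refine ⟨?_, inferInstance, ?_⟩
  · rw [ModPair.IsMinimal, Scheme.IdealSheafData.comap_comp]
    exact hf1.trans (congrArg (·.comap f) hg1)
  · have h : g ⁻¹ᵁ ModPair.interior K = ModPair.interior J := by rw [hg1, interior_comap]
    have h1 : IsIso (f ∣_ g ⁻¹ᵁ ModPair.interior K) := by rw [h]; exact hf3
    rw [morphismRestrict_comp]
    exact IsIso.comp_isIso' h1 hg3

/-- Restriction over an open of a base change of a morphism which is an isomorphism over `W`. -/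
theorem isIso_restrict_of_isPullback {A S : Scheme.{u}} {a : A ⟶ X} {b : A ⟶ Y} {g : X ⟶ S} {s : Y ⟶ S}
    (H : IsPullback a b g s) (W : S.Opens) [IsIso (s ∣_ W)]
    (V : X.Opens) (hV : V ≤ g ⁻¹ᵁ W) : IsIso (a ∣_ V) := by
  have outer := (isPullback_morphismRestrict a V).paste_vert H
  let k := g.resLE W V hV
  have hk : k ≫ W.ι = V.ι ≫ g := Scheme.Hom.resLE_comp_ι g hV
  have bot := isPullback_morphismRestrict s W
  let l := bot.lift (a ∣_ V ≫ k) ((a ⁻¹ᵁ V).ι ≫ b)
    (by rw [Category.assoc, hk, outer.w])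
  have outer' : IsPullback (a ∣_ V) (l ≫ (s ⁻¹ᵁ W).ι) (k ≫ W.ι) s := by
    rw [bot.lift_snd, hk]; exact outer
  have top := IsPullback.of_bot outer' (by simp [l]) bot
  exact MorphismProperty.of_isPullback (P := MorphismProperty.isomorphisms _) top.flip
    ((MorphismProperty.isomorphisms.iff _).2 inferInstance)

theorem isIso_restrict_baseChange {S : Scheme.{u}} (g : X ⟶ S) (s : Y ⟶ S) (W : S.Opens) [IsIso (s ∣_ W)]
    (V : X.Opens) (hV : V ≤ g ⁻¹ᵁ W) : IsIso (pullback.fst g s ∣_ V) :=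
  isIso_restrict_of_isPullback (IsPullback.of_hasPullback g s) W V hV

end Groth.Agent.ModPairLib

namespace Groth.Agent.ModPairLib

/-- The modulus condition transported along a commutative square with minimal right side. -/
theorem isAmbient_of_minimal_square {A X Y Y' : Scheme.{u}} {IX : X.IdealSheafData} {IY : Y.IdealSheafData}
    {IY' : Y'.IdealSheafData} {q : A ⟶ X} {r : A ⟶ Y} {f : X ⟶ Y'} {s : Y ⟶ Y'} (hw : r ≫ s = q ≫ f)
    (hs : ModPair.IsMinimal IY IY' s) (hf : ModPair.IsAmbient IX IY' f) :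
    ModPair.IsAmbient (IX.comap q) IY r := by
  have hs' : IY = IY'.comap s := hs
  show IX.comap q ≤ IY.comap r
  rw [hs', ← Scheme.IdealSheafData.comap_comp, hw, Scheme.IdealSheafData.comap_comp]
  exact Scheme.IdealSheafData.comap_mono (f := q) hf

end Groth.Agent.ModPairLib
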