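import Groth.Agent.ModPairLib.Closure
import Groth.Agent.ModPairLib.Glue
import Mathlib.CategoryTheory.Limits.Shapes.Opposites.Products
import Mathlib.CategoryTheory.Limits.Preserves.Opposites
import Mathlib.CategoryTheory.Localization.FiniteProducts
import Mathlib.CategoryTheory.Localization.Opposite

/-!
Coproducts of modulus pairs.
-/

set_option autoImplicit false
set_option maxHeartbeats 800000
universe u

open CategoryTheory Limits AlgebraicGeometry

namespace Groth.Agent.ModPairLib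

variable {X Y P : Scheme.{u}} {σ : Type u}

theorem comap_ker_of_isPullback {Z : Scheme.{u}} {c : Z ⟶ Y} [IsClosedImmersion c] {f : X ⟶ Y} {a : P ⟶ Z}
    {c' : P ⟶ X} (H : IsPullback a c' c f) : c.ker.comap f = c'.ker := by
  have H' : IsPullback (a ≫ c.toImage) c' c.ker.subschemeι f :=
    H.of_iso (Iso.refl _) (asIso c.toImage) (Iso.refl _) (Iso.refl _) (by simp) (by simp)
      (by simp) (by simp)
  show (pullback.fst f c.ker.subschemeι).ker = _
  rw [← H'.flip.isoPullback_hom_fst, Scheme.Hom.ker_comp_of_isIso]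

theorem le_of_openCover {A B : X.IdealSheafData}
    (h : ∀ x : X, ∃ (V : Scheme.{u}) (j : V ⟶ X) (_ : IsOpenImmersion j), x ∈ Set.range j.base ∧ A.comap j ≤ B.comap j) :
    A ≤ B := by
  suffices A ⊔ B = B by exact le_sup_left.trans this.le
  refine ext_of_charts fun x => ?_
  obtain ⟨V, j, _, ⟨v, rfl⟩, hle⟩ := h x
  obtain ⟨W, hW, hvW, -⟩ := exists_isAffineOpen_mem_and_subset (U := (⊤ : V.Opens)) (x := v) trivial
  refine ⟨⟨j ''ᵁ W, hW.image_of_isOpenImmersion j⟩, ⟨v, hvW, rfl⟩, ?_⟩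
  have e : (A ⊔ B).comap j = B.comap j := by
    rw [Scheme.IdealSheafData.comap_sup]
    exact sup_eq_right.2 hle
  have e' := congrArg (fun K => K.ideal ⟨W, hW⟩) e
  simp only [Scheme.IdealSheafData.ideal_comap_of_isOpenImmersion] at e'
  have := congrArg (Ideal.map (j.appIso W).inv.hom) e'
  rwa [Ideal.map_comap_of_surjective _ (ConcreteCategory.bijective_of_isIso (j.appIso W).inv).2,
    Ideal.map_comap_of_surjective _ (ConcreteCategory.bijective_of_isIso (j.appIso W).inv).2] at this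

theorem sigmaι_eq {A : σ → Scheme.{u}} {i j : σ} {a : A i} {b : A j}
    (h : (Sigma.ι A i).base a = (Sigma.ι A j).base b) : (⟨i, a⟩ : Σ i, A i) = ⟨j, b⟩ :=
  (sigmaMk A).injective (by rw [sigmaMk_mk, sigmaMk_mk]; exact h)

theorem exists_sigmaι (A : σ → Scheme.{u}) (z : (∐ A : Scheme.{u})) : ∃ i a, (Sigma.ι A i).base a = z := by
  obtain ⟨⟨i, a⟩, h⟩ := (sigmaMk A).surjective z
  exact ⟨i, a, (sigmaMk_mk A i a).symm.trans h⟩

theorem isPullback_sigmaMap {A B : σ → Scheme.{u}} (f : ∀ i, A i ⟶ B i) (i : σ) :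
    IsPullback (f i) (Sigma.ι A i) (Sigma.ι B i) (Limits.Sigma.map f) := by
  refine IsOpenImmersion.isPullback _ _ _ _ (by simp) ?_
  refine le_antisymm ?_ ?_
  · intro z hz
    obtain ⟨j, a, rfl⟩ := exists_sigmaι A z
    obtain ⟨b, hb⟩ := hz
    have hb' : (Sigma.ι B i).base b = (Sigma.ι B j).base ((f j).base a) := by
      rw [hb, ← Scheme.Hom.comp_apply, Limits.Sigma.ι_map, Scheme.Hom.comp_apply]
    obtain rfl : i = j := congrArg Sigma.fst (sigmaι_eq hb')
    exact ⟨a, rfl⟩
  · rintro _ ⟨a, rfl⟩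
    exact ⟨(f i).base a, by rw [← Scheme.Hom.comp_apply, ← Scheme.Hom.comp_apply, Limits.Sigma.ι_map]⟩

theorem sigmaMap_prop (Q : MorphismProperty Scheme.{u}) [IsZariskiLocalAtTarget Q] {A B : σ → Scheme.{u}}
    (f : ∀ i, A i ⟶ B i) (h : ∀ i, Q (f i)) : Q (Limits.Sigma.map f) := by
  refine IsZariskiLocalAtTarget.of_openCover (sigmaOpenCover B) fun (i : σ) => ?_
  refine (Q.arrow_mk_iso_iff ?_).1 (h i)
  exact Arrow.isoMk (isPullback_sigmaMap f i).flip.isoPullback (Iso.refl _)
    ((isPullback_sigmaMap f i).flip.isoPullback_hom_snd.trans (Category.comp_id _).symm)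

theorem exists_sigmaIdeal (A : σ → Scheme.{u}) (I : ∀ i, (A i).IdealSheafData) :
    ∃ K : (∐ A).IdealSheafData, ∀ i, K.comap (Sigma.ι A i) = I i := by
  haveI : IsClosedImmersion (Limits.Sigma.map fun i => (I i).subschemeι) :=
    sigmaMap_prop @IsClosedImmersion _ fun i => inferInstance
  exact ⟨_, fun i => (comap_ker_of_isPullback (isPullback_sigmaMap (fun i => (I i).subschemeι) i).flip).trans
    (I i).ker_subschemeι⟩

/-- The disjoint union of modulus pairs. -/
noncomputable def sigmaPair (F : σ → ModPair.Pair.{u}) : ModPair.Pair.{u} where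
  total := ∐ fun i => (F i).total
  mod := (exists_sigmaIdeal (fun i => (F i).total) fun i => (F i).mod).choose
  isEffCartier := isEffCartier_of_local fun z => by
    obtain ⟨i, a, rfl⟩ := exists_sigmaι _ z
    refine ⟨_, Sigma.ι (fun i => (F i).total) i, inferInstance, ⟨a, rfl⟩, ?_⟩
    rw [(exists_sigmaIdeal (fun i => (F i).total) fun i => (F i).mod).choose_spec i]
    exact (F i).isEffCartier

/-- The inclusion of a summand. -/
noncomputable abbrev sι (F : σ → ModPair.Pair.{u}) (i : σ) : (F i).total ⟶ (sigmaPair F).total :=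
  Sigma.ι (fun i => (F i).total) i

instance (F : σ → ModPair.Pair.{u}) (i : σ) : IsOpenImmersion (sι F i) :=
  inferInstanceAs (IsOpenImmersion (Sigma.ι (fun i => (F i).total) i))

@[reassoc (attr := simp)]
theorem sι_map {A B : σ → ModPair.Pair.{u}} (f : ∀ i, (A i).total ⟶ (B i).total) (i : σ) :
    sι A i ≫ (Limits.Sigma.map f : (sigmaPair A).total ⟶ (sigmaPair B).total) = f i ≫ sι B i :=
  Limits.Sigma.ι_map f i

theorem sigmaPair_mod (F : σ → ModPair.Pair.{u}) (i : σ) :
    (sigmaPair F).mod.comap (sι F i) = (F i).mod :=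
  (exists_sigmaIdeal (fun i => (F i).total) fun i => (F i).mod).choose_spec i

/-- The cofan of a disjoint union. -/
noncomputable def sigmaCofan (F : σ → ModPair.Pair.{u}) : Cofan F :=
  Cofan.mk (sigmaPair F) fun i => ⟨sι F i, (sigmaPair_mod F i).ge⟩

theorem le_sigma {F : σ → ModPair.Pair.{u}} {K : (sigmaPair F).total.IdealSheafData}
    (h : ∀ i, (F i).mod ≤ K.comap (sι F i)) : (sigmaPair F).mod ≤ K :=
  le_of_openCover fun z => by
    obtain ⟨i, a, rfl⟩ := exists_sigmaι _ z
    exact ⟨_, sι F i, inferInstance, ⟨a, rfl⟩, (sigmaPair_mod F i).le.trans (h i)⟩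

/-- The disjoint union is a coproduct. -/
noncomputable def isColimitSigmaCofan (F : σ → ModPair.Pair.{u}) : IsColimit (sigmaCofan F) :=
  Cofan.IsColimit.mk _ (fun s => ⟨Sigma.desc fun i => (s.inj i).hom, le_sigma fun i => by
      have h := (s.inj i).cond
      erw [← Scheme.IdealSheafData.comap_comp, Sigma.ι_desc]
      exact h⟩)
    (fun s i => ModPair.Pair.Hom.ext (Sigma.ι_desc _ _))
    (fun s m h => ModPair.Pair.Hom.ext (Sigma.hom_ext _ _ fun i => by
      rw [Sigma.ι_desc]; exact congrArg ModPair.Pair.Hom.hom (h i)))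

theorem hasColimitsOfShape_discrete : HasColimitsOfShape (Discrete σ) ModPair.Pair.{u} :=
  ⟨fun K =>
    haveI : HasColimit (Discrete.functor (K.obj ∘ Discrete.mk)) := ⟨⟨_, isColimitSigmaCofan _⟩⟩
    hasColimit_of_iso Discrete.natIsoFunctor⟩

theorem preservesColimitsOfShape_forget : PreservesColimitsOfShape (Discrete σ) ModPair.Pair.forget.{u} :=
  @preservesColimitsOfShape_of_discrete _ _ _ _ _ _ (fun F => preservesColimit_of_preserves_colimit_cocone
    (isColimitSigmaCofan F)
    ((isColimitMapCoconeCofanMkEquiv ModPair.Pair.forget.{u} F _).symm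
      (coproductIsCoproduct fun i => (F i).total)))

theorem isIso_restrict_sigmaMap {A B : σ → ModPair.Pair.{u}} (f : ∀ i, (A i).total ⟶ (B i).total)
    (h : ∀ i, IsIso (f i ∣_ ModPair.interior (B i).mod)) :
    IsIso (Limits.Sigma.map f ∣_ ModPair.interior (sigmaPair B).mod) := by
  let U := ModPair.interior (sigmaPair B).mod
  let jB := fun i => sι B i
  have hW : ∀ i, jB i ⁻¹ᵁ U = ModPair.interior (B i).mod := fun i => by
    rw [← interior_comap, sigmaPair_mod]
  have key : ∀ i, IsIso (Limits.Sigma.map f ∣_ (jB i ''ᵁ (ModPair.interior (B i).mod))) := fun i => by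
    haveI := h i
    let W := ModPair.interior (B i).mod
    have outer := (isPullback_morphismRestrict (f i) W).paste_vert (isPullback_sigmaMap f i)
    have e : ((jB i).isoImage W).hom ≫ (jB i ''ᵁ W).ι = W.ι ≫ jB i := Scheme.Hom.isoImage_hom_ι _ _
    have H : IsPullback ((f i ∣_ W) ≫ ((jB i).isoImage W).hom)
        ((f i ⁻¹ᵁ W).ι ≫ sι A i) (jB i ''ᵁ W).ι (Limits.Sigma.map f) :=
      outer.of_iso (Iso.refl _) ((jB i).isoImage W) (Iso.refl _) (Iso.refl _) (by simp)
        ((Category.comp_id _).trans (Category.id_comp _).symm)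
        (by simp [e]; rfl) ((Category.comp_id _).trans (Category.id_comp _).symm)
    haveI : IsIso ((f i ∣_ W) ≫ ((jB i).isoImage W).hom) := IsIso.comp_isIso' (h i) inferInstance
    exact (congrArg (fun m => IsIso m) (IsPullback.isoIsPullback_inv_fst _ _ H
      (isPullback_morphismRestrict (Limits.Sigma.map f) (jB i ''ᵁ W)))).mp
      (IsIso.comp_isIso' inferInstance (IsIso.comp_isIso' (h i) inferInstance))
  refine (MorphismProperty.isomorphisms.iff _).1 (IsZariskiLocalAtTarget.of_iSup_eq_top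
    (P := MorphismProperty.isomorphisms Scheme.{u})
    (fun i : σ => U.ι ⁻¹ᵁ (jB i).opensRange) ?_ fun i => ?_)
  · refine top_unique fun x _ => ?_
    obtain ⟨i, a, ha⟩ := exists_sigmaι _ x.1
    exact TopologicalSpace.Opens.mem_iSup.2 ⟨i, ⟨a, ha⟩⟩
  · refine ((MorphismProperty.isomorphisms Scheme.{u}).arrow_mk_iso_iff
      (morphismRestrictRestrict (Limits.Sigma.map f) U _)).2 ?_
    have he : U.ι ''ᵁ (U.ι ⁻¹ᵁ (jB i).opensRange) = jB i ''ᵁ (ModPair.interior (B i).mod) := by
      rw [← hW, Scheme.Hom.image_preimage_eq_opensRange_inf, Scheme.Hom.image_preimage_eq_opensRange_inf,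
        Scheme.Opens.opensRange_ι, inf_comm]
    exact (congrArg (fun V => IsIso (Limits.Sigma.map f ∣_ V)) he).mpr (key i)

/-- The coproduct of admissible blow-ups, as a morphism of disjoint unions. -/
noncomputable def sigmaMap {A B : σ → ModPair.Pair.{u}} (f : ∀ i, A i ⟶ B i) : sigmaPair A ⟶ sigmaPair B :=
  ⟨Limits.Sigma.map fun i => (f i).hom, le_sigma fun i => by
    refine le_trans ?_ (Scheme.IdealSheafData.comap_comp _ (sι A i) _).le
    refine le_trans ?_ (congrArg (fun k => (sigmaPair B).mod.comap k) (sι_map (fun i => (f i).hom) i)).ge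
    rw [Scheme.IdealSheafData.comap_comp, sigmaPair_mod]
    exact (f i).cond⟩

theorem admBlowup_sigmaMap {A B : σ → ModPair.Pair.{u}} (f : ∀ i, A i ⟶ B i)
    (hf : ∀ i, ModPair.Pair.admBlowup (f i)) : ModPair.Pair.admBlowup (sigmaMap f) := by
  refine ⟨le_antisymm (sigmaMap f).cond (le_of_openCover fun z => ?_), ?_, ?_⟩
  · obtain ⟨i, a, rfl⟩ := exists_sigmaι _ z
    refine ⟨_, sι A i, inferInstance, ⟨a, rfl⟩, ?_⟩
    refine ((Scheme.IdealSheafData.comap_comp _ (sι A i) (sigmaMap f).hom).ge).trans ?_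
    rw [sigmaPair_mod, show sι A i ≫ (sigmaMap f).hom = (f i).hom ≫ sι B i from sι_map _ _,
      Scheme.IdealSheafData.comap_comp, sigmaPair_mod]
    exact (hf i).1.ge
  · exact sigmaMap_prop @IsProper _ fun i => (hf i).2.1
  · exact isIso_restrict_sigmaMap (fun i => (f i).hom) fun i => (hf i).2.2

instance respectsIso_admBlowup : (ModPair.Pair.admBlowup.{u}).RespectsIso := by
  have hiso : ∀ {A B : ModPair.Pair.{u}} (e : A ⟶ B), IsIso e → ModPair.Pair.admBlowup e := fun {A B} e he => by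
    have : IsIso e.hom := inferInstanceAs (IsIso (ModPair.Pair.forget.map e))
    refine ⟨le_antisymm e.cond ?_, inferInstance, inferInstance⟩
    refine (Scheme.IdealSheafData.comap_mono e.hom (inv e).cond).trans ?_
    refine (Scheme.IdealSheafData.comap_comp _ e.hom (inv e).hom).ge.trans ?_
    rw [show e.hom ≫ (inv e).hom = 𝟙 _ from
      congrArg ModPair.Pair.Hom.hom (IsIso.hom_inv_id e), Scheme.IdealSheafData.comap_id]
  refine MorphismProperty.RespectsIso.mk _ (fun e f hf => ?_) (fun e f hf => ?_)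
  · exact isAdmBlowup_comp (hiso e.hom inferInstance) hf
  · exact isAdmBlowup_comp hf (hiso e.hom inferInstance)

theorem isStable_admBlowup (J : Type) [Finite J] :
    (ModPair.Pair.admBlowup.{u}).IsStableUnderCoproductsOfShape J := by
  refine MorphismProperty.IsStableUnderCoproductsOfShape.mk _ _ fun X₁ X₂ _ _ f hf => ?_
  let Y₁ : ULift.{u} J → ModPair.Pair.{u} := fun j => X₁ j.down
  let Y₂ : ULift.{u} J → ModPair.Pair.{u} := fun j => X₂ j.down
  let R : ∀ X : J → ModPair.Pair.{u}, ∀ [HasCoproduct X], IsColimit (Cofan.mk (∐ X) fun j : ULift.{u} J => Sigma.ι X j.down) :=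
    fun X _ => Cofan.IsColimit.mk _ (fun s => Sigma.desc fun j => s.inj ⟨j⟩)
      (fun s j => Sigma.ι_desc _ _) (fun s m hm => Sigma.hom_ext m _ fun j => (hm ⟨j⟩).trans (Sigma.ι_desc (fun j => s.inj ⟨j⟩) j).symm)
  let e₁ := (isColimitSigmaCofan Y₁).coconePointUniqueUpToIso (R X₁)
  let e₂ := (isColimitSigmaCofan Y₂).coconePointUniqueUpToIso (R X₂)
  have h := admBlowup_sigmaMap (fun j : ULift.{u} J => f j.down) fun j => hf j.down
  refine ((ModPair.Pair.admBlowup.{u}).arrow_mk_iso_iff (Arrow.isoMk e₁ e₂ ?_)).1 h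
  refine Cofan.IsColimit.hom_ext (isColimitSigmaCofan Y₁) _ _ fun j => ?_
  have c₁ : (sigmaCofan Y₁).inj j ≫ e₁.hom = Sigma.ι X₁ j.down :=
    IsColimit.comp_coconePointUniqueUpToIso_hom (isColimitSigmaCofan Y₁) (R X₁) ⟨j⟩
  have c₂ : (sigmaCofan Y₂).inj j ≫ e₂.hom = Sigma.ι X₂ j.down :=
    IsColimit.comp_coconePointUniqueUpToIso_hom (isColimitSigmaCofan Y₂) (R X₂) ⟨j⟩
  have c₃ : (sigmaCofan Y₁).inj j ≫ sigmaMap (fun j : ULift.{u} J => f j.down) = f j.down ≫ (sigmaCofan Y₂).inj j :=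
    ModPair.Pair.Hom.ext (sι_map _ _)
  show (sigmaCofan Y₁).inj j ≫ e₁.hom ≫ Limits.Sigma.map f = (sigmaCofan Y₁).inj j ≫ sigmaMap _ ≫ e₂.hom
  exact ((Category.assoc _ _ _).symm.trans ((congrArg (· ≫ Limits.Sigma.map f) c₁).trans (Limits.Sigma.ι_map f j.down))).trans
    ((congrArg (f j.down ≫ ·) c₂).symm.trans ((Category.assoc _ _ _).symm.trans
      ((congrArg (· ≫ e₂.hom) c₃).symm.trans (Category.assoc _ _ _))))

theorem localization_coproducts {C : Type*} [Category C] (W : MorphismProperty C)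
    [W.ContainsIdentities] (J : Type) [Finite J] [HasColimitsOfShape (Discrete J) C]
    [W.IsStableUnderCoproductsOfShape J] :
    HasColimitsOfShape (Discrete J) W.Localization ∧ PreservesColimitsOfShape (Discrete J) W.Q := by
  haveI : W.op.IsStableUnderProductsOfShape J := by
    constructor
    intro X₁ X₂ c₁ c₂ h₁ h₂ f hf α hα
    let mk := fun (X : Discrete J ⥤ Cᵒᵖ) (c : Cone X) =>
      ({ pt := c.pt.unop
         ι := Discrete.natTrans fun j => (c.π.app j).unop } : Cocone (Discrete.functor fun j => (X.obj ⟨j⟩).unop))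
    have hmk : ∀ (X : Discrete J ⥤ Cᵒᵖ) (c : Cone X), IsLimit c → Nonempty (IsColimit (mk X c)) := fun X c hc =>
      ⟨Cofan.IsColimit.mk _ (fun s => (hc.lift ⟨Opposite.op s.pt, Discrete.natTrans fun j => (s.inj j.as).op⟩).unop)
        (fun s j => Quiver.Hom.op_inj (hc.fac _ ⟨j⟩))
        (fun s m hm => Quiver.Hom.op_inj (hc.uniq (⟨Opposite.op s.pt, Discrete.natTrans fun j => (s.inj j.as).op⟩ : Cone X) m.op
        fun j => Quiver.Hom.unop_inj (hm j.as)))⟩
    refine MorphismProperty.IsStableUnderColimitsOfShape.condition (W := W) (J := Discrete J) _ _ (mk X₂ c₂) (mk X₁ c₁)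
      (hmk X₂ c₂ h₂).some (hmk X₁ c₁ h₁).some (Discrete.natTrans fun j => (f.app j).unop) (fun j => hf j) α.unop fun j => ?_
    exact Quiver.Hom.op_inj (hα j)
  haveI : W.op.ContainsIdentities := ⟨fun X => W.id_mem X.unop⟩
  haveI := Localization.hasProductsOfShape W.Q.op W.op J
  haveI := Localization.preservesProductsOfShape W.Q.op W.op J
  exact ⟨hasCoproductsOfShape_of_opposite J,
    haveI : PreservesLimitsOfShape (Discrete J)ᵒᵖ W.Q.op :=
      preservesLimitsOfShape_of_equiv (Discrete.opposite J).symm W.Q.op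
    preservesColimitsOfShape_of_op (Discrete J) W.Q⟩

end Groth.Agent.ModPairLib
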