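import Groth.Agent.ModPairLib.Basic
import Mathlib.RingTheory.Ideal.Operations

/-!
Common charts of effective Cartier ideal sheaves; lcm / gcd of two effective Cartier divisors.
-/

set_option autoImplicit false
universe u

open CategoryTheory AlgebraicGeometry

namespace Groth.Agent.ModPairLib

variable {X Y : Scheme.{u}}

theorem interior_mul (I J : X.IdealSheafData) :
    ModPair.interior (I * J) = ModPair.interior I ⊓ ModPair.interior J := by
  ext x
  simp [ModPair.interior]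

theorem interior_sup (I J : X.IdealSheafData) :
    ModPair.interior (I ⊔ J) = ModPair.interior I ⊔ ModPair.interior J := by
  ext x
  simp [ModPair.interior, Set.compl_inter]

/-- Every generator of an effective Cartier ideal on an affine open is a nonzerodivisor. -/
theorem nzd_of_span {I : X.IdealSheafData} (hI : BlowUp.IsEffCartierIdeal I) (V : X.affineOpens)
    {g : Γ(X, V.1)} (h : I.ideal V = Ideal.span {g}) : g ∈ nonZeroDivisors Γ(X, V.1) := by
  haveI := std_interior hI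
  haveI := isAffineHom_interior hI
  have hle : V.1 ⊓ ModPair.interior I ≤ X.basicOpen g := by
    rw [inf_comm, show ModPair.interior I = I.support.compl from rfl, DivPts.compl_inf_eq_basicOpen I V h]
  refine mem_nonZeroDivisors_of_injective (f := (X.presheaf.map (homOfLE (inf_le_left :
    V.1 ⊓ ModPair.interior I ≤ V.1)).op).hom) (app_injective_of_std V.1) ?_
  have hu := (X.toRingedSpace.isUnit_res_basicOpen g).map (X.presheaf.map (homOfLE hle).op).hom
  have he : (X.presheaf.map (homOfLE (X.basicOpen_le g)).op ≫ X.presheaf.map (homOfLE hle).op) =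
      X.presheaf.map (homOfLE (inf_le_left : V.1 ⊓ ModPair.interior I ≤ V.1)).op := by
    rw [← Functor.map_comp]; rfl
  rw [← he]
  exact hu.mem_nonZeroDivisors

/-- Around every point inside a given open there is an affine open on all affine opens of which the
ideal is principal. -/
theorem exists_span {I : X.IdealSheafData} (hI : BlowUp.IsEffCartierIdeal I) (x : X) (W : X.Opens)
    (hx : x ∈ W) : ∃ V : X.affineOpens, x ∈ V.1 ∧ V.1 ≤ W ∧
      ∀ V' : X.affineOpens, V'.1 ≤ V.1 → ∃ g, I.ideal V' = Ideal.span {g} := by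
  obtain ⟨U, hxU, g, -, hg⟩ := hI x
  obtain ⟨V, hV, hxV, hVU⟩ := exists_isAffineOpen_mem_and_subset (U := U.1 ⊓ W) (x := x) ⟨hxU, hx⟩
  refine ⟨⟨V, hV⟩, hxV, fun y hy => (hVU hy).2, fun V' hV' => ?_⟩
  have hle : V' ≤ U := fun y hy => (hVU (hV' hy)).1
  exact ⟨(X.presheaf.map (homOfLE hle).op).hom g,
    by rw [← I.map_ideal hle, hg, Ideal.map_span, Set.image_singleton]⟩

theorem exists_chart₃ {I J E : X.IdealSheafData} (hI : BlowUp.IsEffCartierIdeal I)
    (hJ : BlowUp.IsEffCartierIdeal J) (hE : BlowUp.IsEffCartierIdeal E) (x : X) :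
    ∃ V : X.affineOpens, x ∈ V.1 ∧ ∃ a b e, I.ideal V = Ideal.span {a} ∧ J.ideal V = Ideal.span {b} ∧
      E.ideal V = Ideal.span {e} ∧ e ∈ nonZeroDivisors Γ(X, V.1) := by
  obtain ⟨V₁, h₁, -, H₁⟩ := exists_span hI x ⊤ trivial
  obtain ⟨V₂, h₂, h₂', H₂⟩ := exists_span hJ x V₁.1 h₁
  obtain ⟨V₃, h₃, h₃', H₃⟩ := exists_span hE x V₂.1 h₂
  obtain ⟨a, ha⟩ := H₁ V₃ (h₃'.trans h₂')
  obtain ⟨b, hb⟩ := H₂ V₃ h₃'
  obtain ⟨e, he⟩ := H₃ V₃ le_rfl
  exact ⟨V₃, h₃, a, b, e, ha, hb, he, nzd_of_span hE V₃ he⟩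

theorem ext_of_charts {I J : X.IdealSheafData}
    (h : ∀ x : X, ∃ V : X.affineOpens, x ∈ V.1 ∧ I.ideal V = J.ideal V) : I = J := by
  choose V hx hV using h
  exact Scheme.IdealSheafData.ext_of_iSup_eq_top V
    (top_unique fun x _ => TopologicalSpace.Opens.mem_iSup.2 ⟨x, hx x⟩) hV

theorem comap_mul (I J : Y.IdealSheafData) (f : X ⟶ Y) : (I * J).comap f = I.comap f * J.comap f := by
  refine ext_of_charts fun x => ?_
  obtain ⟨U, hU, hfx, -⟩ := exists_isAffineOpen_mem_and_subset (U := ⊤) (x := f.base x) trivial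
  obtain ⟨V, hV, hxV, hVU⟩ := exists_isAffineOpen_mem_and_subset (U := f ⁻¹ᵁ U) (x := x) hfx
  refine ⟨⟨V, hV⟩, hxV, ?_⟩
  simp only [Scheme.IdealSheafData.ideal_mul, Pi.mul_apply, FpqcDescent.ideal_comap _ f ⟨U, hU⟩ ⟨V, hV⟩ hVU,
    Ideal.map_mul]

/-- Local algebra: two principal ideals whose sum is principal, generated by a nonzerodivisor. -/
theorem lcm_algebra {R : Type u} [CommRing R] {a b e : R} (he : e ∈ nonZeroDivisors R)
    (h : Ideal.span {a} ⊔ Ideal.span {b} = Ideal.span {e}) :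
    ∃ α β : R, a = e * α ∧ b = e * β ∧ Ideal.span {a} ⊓ Ideal.span {b} = Ideal.span {e * α * β} := by
  obtain ⟨α, hα⟩ := Ideal.mem_span_singleton.1 (h ▸ Ideal.mem_sup_left (Ideal.mem_span_singleton_self a))
  obtain ⟨β, hβ⟩ := Ideal.mem_span_singleton.1 (h ▸ Ideal.mem_sup_right (Ideal.mem_span_singleton_self b))
  obtain ⟨y, hy, z, hz, hyz⟩ := Submodule.mem_sup.1 (h.ge (Ideal.mem_span_singleton_self e))
  obtain ⟨u, rfl⟩ := Ideal.mem_span_singleton.1 hy
  obtain ⟨v, rfl⟩ := Ideal.mem_span_singleton.1 hz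
  have h1 : α * u + β * v = 1 := by
    refine sub_eq_zero.1 (he.1 _ ?_)
    rw [hα, hβ] at hyz
    linear_combination hyz
  refine ⟨α, β, hα, hβ, le_antisymm (fun w hw => ?_) ?_⟩
  · obtain ⟨x, hx⟩ := Ideal.mem_span_singleton.1 hw.1
    obtain ⟨y, hy⟩ := Ideal.mem_span_singleton.1 hw.2
    refine Ideal.mem_span_singleton.2 ⟨y * u + x * v, ?_⟩
    rw [hα] at hx
    rw [hβ] at hy
    linear_combination (-w) * h1 + α * u * hy + β * v * hx
  · rw [Ideal.span_singleton_le_iff_mem, hα, hβ]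
    exact ⟨Ideal.mem_span_singleton.2 ⟨β, rfl⟩, Ideal.mem_span_singleton.2 ⟨α, by ring⟩⟩

theorem mul_right_cancel {K L E : X.IdealSheafData} (hE : BlowUp.IsEffCartierIdeal E) (h : K * E = L * E) :
    K = L := by
  refine ext_of_charts fun x => ?_
  obtain ⟨V, hV, -, H⟩ := exists_span hE x ⊤ trivial
  obtain ⟨e, he⟩ := H V le_rfl
  refine ⟨V, hV, ?_⟩
  have hinj : Function.Injective (fun y : Γ(X, V.1) => y * e) := fun p q hpq =>
    sub_eq_zero.1 ((nzd_of_span hE V he).2 _ (by rw [sub_mul]; exact sub_eq_zero.2 hpq))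
  have h' := congrFun (congrArg Scheme.IdealSheafData.ideal h) V
  simp only [Scheme.IdealSheafData.ideal_mul, Pi.mul_apply, he] at h'
  ext w
  constructor <;> intro hw
  · obtain ⟨z, hz, hzw⟩ := Ideal.mem_mul_span_singleton.1 (h'.le (Ideal.mul_mem_mul hw (Ideal.mem_span_singleton_self e)))
    exact hinj hzw ▸ hz
  · obtain ⟨z, hz, hzw⟩ := Ideal.mem_mul_span_singleton.1 (h'.ge (Ideal.mul_mem_mul hw (Ideal.mem_span_singleton_self e)))
    exact hinj hzw ▸ hz

variable {I J : X.IdealSheafData}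

theorem inf_mul_sup (hI : BlowUp.IsEffCartierIdeal I) (hJ : BlowUp.IsEffCartierIdeal J)
    (hE : BlowUp.IsEffCartierIdeal (I ⊔ J)) : (I ⊓ J) * (I ⊔ J) = I * J := by
  refine ext_of_charts fun x => ?_
  obtain ⟨V, hV, a, b, e, ha, hb, he, hen⟩ := exists_chart₃ hI hJ hE x
  have he' : Ideal.span {a} ⊔ Ideal.span {b} = Ideal.span {e} := by
    rw [← ha, ← hb, ← he]; simp [Scheme.IdealSheafData.ideal_sup]
  obtain ⟨α, β, hα, hβ, hinf⟩ := lcm_algebra hen he'
  refine ⟨V, hV, ?_⟩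
  simp only [Scheme.IdealSheafData.ideal_mul, Pi.mul_apply, Scheme.IdealSheafData.ideal_inf, Pi.inf_apply]
  rw [ha, hb, he, hinf, Ideal.span_singleton_mul_span_singleton, Ideal.span_singleton_mul_span_singleton, hα, hβ]
  congr 2
  ring

theorem isEffCartier_inf (hI : BlowUp.IsEffCartierIdeal I) (hJ : BlowUp.IsEffCartierIdeal J)
    (hE : BlowUp.IsEffCartierIdeal (I ⊔ J)) : BlowUp.IsEffCartierIdeal (I ⊓ J) := fun x => by
  obtain ⟨V, hV, a, b, e, ha, hb, he, hen⟩ := exists_chart₃ hI hJ hE x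
  have he' : Ideal.span {a} ⊔ Ideal.span {b} = Ideal.span {e} := by
    rw [← ha, ← hb, ← he]; simp [Scheme.IdealSheafData.ideal_sup]
  obtain ⟨α, β, hα, hβ, hinf⟩ := lcm_algebra hen he'
  refine ⟨V, hV, e * α * β, ?_, ?_⟩
  · have han := nzd_of_span hI V ha
    have hbn := nzd_of_span hJ V hb
    rw [hα, mul_mem_nonZeroDivisors] at han
    rw [hβ, mul_mem_nonZeroDivisors] at hbn
    exact mul_mem (mul_mem hen han.2) hbn.2
  · simp only [Scheme.IdealSheafData.ideal_inf, Pi.inf_apply]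
    rw [ha, hb, hinf]

/-- The ambient product modulus is the intersection of the two moduli. -/
theorem eq_inf_of_mul (hI : BlowUp.IsEffCartierIdeal I) (hJ : BlowUp.IsEffCartierIdeal J)
    (hE : BlowUp.IsEffCartierIdeal (I ⊔ J)) {K : X.IdealSheafData} (h : K * (I ⊔ J) = I * J) : K = I ⊓ J :=
  mul_right_cancel hE (h.trans (inf_mul_sup hI hJ hE).symm)

theorem interior_inf (I J : X.IdealSheafData) :
    ModPair.interior (I ⊓ J) = ModPair.interior I ⊓ ModPair.interior J := by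
  refine le_antisymm (le_inf (interior_mono inf_le_left) (interior_mono inf_le_right)) ?_
  rw [← interior_mul]
  refine interior_mono fun U => ?_
  simp only [Scheme.IdealSheafData.ideal_mul, Pi.mul_apply, Scheme.IdealSheafData.ideal_inf, Pi.inf_apply]
  exact Ideal.mul_le_inf

end Groth.Agent.ModPairLib
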