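import Groth.Agent.ModPairLib.Valu

/-!
Schematic images of immersions into the interior.
-/

set_option autoImplicit false
universe u

open CategoryTheory Limits AlgebraicGeometry

namespace Groth.Agent.ModPairLib

variable {X V : Scheme.{u}}

/-- The schematic image in `X` of a closed subscheme of an open `U` restricts to it over `U`. -/
theorem image_restrict {U : X.Opens} [QuasiCompact U.ι] {h : V ⟶ X} (g : V ⟶ (U : Scheme.{u}))
    [IsClosedImmersion g] (hg : g ≫ U.ι = h) :
    IsOpenImmersion (Scheme.Hom.toImage h) ∧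
      Set.range (Scheme.Hom.toImage h).base = (Scheme.Hom.imageι h).base ⁻¹' (U : Set X) := by
  haveI : QuasiCompact h := hg ▸ inferInstance
  haveI := std_toImage h
  have hfac : Scheme.Hom.toImage h ≫ Scheme.Hom.imageι h = h := Scheme.Hom.toImage_imageι _
  let W := Scheme.Hom.imageι h ⁻¹ᵁ U
  have hsub : ∀ v, (Scheme.Hom.toImage h).base v ∈ W := fun v => by
    show (Scheme.Hom.toImage h ≫ Scheme.Hom.imageι h).base v ∈ U
    rw [hfac, ← hg]
    exact (g.base v).2
  have hr : Set.range (Scheme.Hom.toImage h).base ⊆ Set.range W.ι.base := by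
    rw [Scheme.Opens.range_ι]
    rintro _ ⟨v, rfl⟩
    exact hsub v
  let m := IsOpenImmersion.lift W.ι (Scheme.Hom.toImage h) hr
  have hm : m ≫ W.ι = Scheme.Hom.toImage h := IsOpenImmersion.lift_fac _ _ hr
  have hmg : m ≫ (Scheme.Hom.imageι h ∣_ U) = g := by
    rw [← cancel_mono U.ι, Category.assoc, morphismRestrict_ι, reassoc_of% hm, hfac, hg]
  haveI : IsClosedImmersion (m ≫ (Scheme.Hom.imageι h ∣_ U)) := by rw [hmg]; infer_instance
  haveI : IsClosedImmersion m := IsClosedImmersion.of_comp m (Scheme.Hom.imageι h ∣_ U)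
  haveI : IsSchemeTheoreticallyDominant m := by
    refine IsSchemeTheoreticallyDominant.of_isPullback (f := Scheme.Hom.toImage h) (g := W.ι) (pX := 𝟙 _) ?_
    exact ⟨⟨by rw [Category.id_comp, hm]⟩, ⟨PullbackCone.IsLimit.mk _ (fun s => s.fst) (fun s => Category.comp_id _)
      (fun s => by rw [← cancel_mono W.ι, Category.assoc, hm]; exact s.condition)
      (fun s k h₁ _ => by rw [← h₁, Category.comp_id])⟩⟩
  haveI : IsIso m := IsClosedImmersion.isIso_iff_ker_eq_bot.2 m.ker_eq_bot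
  refine ⟨hm ▸ inferInstance, ?_⟩
  ext x
  refine ⟨fun ⟨v, hv⟩ => hv ▸ hsub v, fun hx => ⟨(inv m).base ⟨x, hx⟩, ?_⟩⟩
  rw [← Scheme.Hom.comp_apply, ← hm, IsIso.inv_hom_id_assoc]
  rfl

theorem isEffCartier_image {I : X.IdealSheafData} (hI : BlowUp.IsEffCartierIdeal I) {h : V ⟶ X} [QuasiCompact h]
    (hh : ∀ v, h.base v ∈ ModPair.interior I) : BlowUp.IsEffCartierIdeal (I.comap (Scheme.Hom.imageι h)) := by
  haveI := std_toImage h
  have hfac : Scheme.Hom.toImage h ≫ Scheme.Hom.imageι h = h := Scheme.Hom.toImage_imageι _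
  let W := Scheme.Hom.imageι h ⁻¹ᵁ ModPair.interior I
  have hr : Set.range (Scheme.Hom.toImage h).base ⊆ Set.range W.ι.base := by
    rw [Scheme.Opens.range_ι]
    rintro _ ⟨v, rfl⟩
    show (Scheme.Hom.toImage h ≫ Scheme.Hom.imageι h).base v ∈ ModPair.interior I
    rw [hfac]
    exact hh v
  haveI : IsSchemeTheoreticallyDominant W.ι := by
    refine ⟨le_bot_iff.1 ?_⟩
    have := (IsOpenImmersion.lift W.ι (Scheme.Hom.toImage h) hr).le_ker_comp W.ι
    rwa [IsOpenImmersion.lift_fac, (Scheme.Hom.toImage h).ker_eq_bot] at this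
  exact isEffCartier_comap hI _

/-- Every point has a generization in the interior of an effective Cartier ideal sheaf. -/
theorem exists_mem_interior_specializes {I : X.IdealSheafData} (hI : BlowUp.IsEffCartierIdeal I) (x : X) :
    ∃ u, u ∈ ModPair.interior I ∧ u ⤳ x := by
  obtain ⟨W, hxW, f, hf0, hf⟩ := hI x
  obtain ⟨y, rfl⟩ : x ∈ Set.range W.2.fromSpec := W.2.range_fromSpec.symm ▸ hxW
  haveI : y.asIdeal.IsPrime := y.2
  obtain ⟨Q, hQ, hQy⟩ := Ideal.exists_minimalPrimes_le (I := (⊥ : Ideal Γ(X, W.1))) (J := y.asIdeal) bot_le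
  refine ⟨W.2.fromSpec (⟨Q, hQ.1.1⟩ : PrimeSpectrum Γ(X, W.1)), ?_, ?_⟩
  · exact (mem_interior_chart hf _).2 fun h =>
      Set.disjoint_left.1 (Ideal.disjoint_nonZeroDivisors_of_mem_minimalPrimes hQ) h hf0
  · exact ((PrimeSpectrum.le_iff_specializes (⟨Q, hQ.1.1⟩ : PrimeSpectrum Γ(X, W.1)) y).1 hQy).map W.2.fromSpec.continuous

end Groth.Agent.ModPairLib
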