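import Groth.Agent.ModPairLib.LocalPair
import Groth.Prelude.Def_Curves

/-!
Locality for finite coverings and absolutely integrally closed local domains.
-/

set_option autoImplicit false
set_option maxHeartbeats 800000
universe u

open CategoryTheory CategoryTheory.Limits AlgebraicGeometry TopologicalSpace Polynomial

namespace Groth.Agent.ModPairLib

/-- Every finite covering of `Spec A` on which `f` stays a nonzerodivisor admits a section. -/
def HasRetractions (A : Type u) [CommRing A] (f : A) : Prop :=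
  ∀ (κ : Type u) (B : κ → CommRingCat.{u}) (φ : ∀ k, A →+* B k), (∀ k, (φ k).Finite) →
    (∀ k, φ k f ∈ nonZeroDivisors (B k)) →
    (∀ p : PrimeSpectrum A, ∃ k, p ∈ Set.range (PrimeSpectrum.comap (φ k))) →
    ∃ k, ∃ σ : B k →+* A, σ.comp (φ k) = RingHom.id A

theorem eq_bot_of_retraction {A : Type u} [CommRing A] (J : Ideal A) (σ : A ⧸ J →+* A)
    (h : σ.comp (Ideal.Quotient.mk J) = RingHom.id A) : J = ⊥ := by
  refine eq_bot_iff.2 fun a ha => Ideal.mem_bot.2 ?_
  have := RingHom.congr_fun h a
  rw [RingHom.comp_apply, Ideal.Quotient.eq_zero_iff_mem.2 ha, map_zero] at this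
  exact this.symm

theorem isReduced_and_isDomain {A : Type u} [CommRing A] [Nontrivial A] {f : A} (hf : f ∈ nonZeroDivisors A)
    (h : HasRetractions A f) : IsDomain A := by
  haveI : IsReduced A := by
    have hnz : (Ideal.Quotient.mk (nilradical A)) f ∈ nonZeroDivisors (A ⧸ nilradical A) := by
      refine mem_nonZeroDivisors_of_injective (f := RingHom.id _) Function.injective_id ?_
      rw [RingHom.id_apply, mem_nonZeroDivisors_iff_right]
      intro c hc
      obtain ⟨c, rfl⟩ := Ideal.Quotient.mk_surjective c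
      rw [← map_mul, Ideal.Quotient.eq_zero_iff_mem] at hc
      obtain ⟨n, hn⟩ := hc
      rw [mul_pow] at hn
      exact Ideal.Quotient.eq_zero_iff_mem.2 ⟨n, (mul_right_mem_nonZeroDivisors_eq_zero_iff (pow_mem hf n)).1 hn⟩
    obtain ⟨-, σ, hσ⟩ := h PUnit (fun _ => CommRingCat.of (A ⧸ nilradical A)) (fun _ => Ideal.Quotient.mk _)
      (fun _ => RingHom.Finite.of_surjective _ Ideal.Quotient.mk_surjective) (fun _ => hnz) fun p =>
        ⟨⟨⟩, by
          show p ∈ Set.range (PrimeSpectrum.comap (Ideal.Quotient.mk (nilradical A)))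
          rw [range_comap_of_surjective _ _ Ideal.Quotient.mk_surjective, Ideal.mk_ker]
          exact nilradical_le_prime p.asIdeal⟩
    exact nilradical_eq_bot_iff.1 (eq_bot_of_retraction _ σ hσ)
  haveI : NoZeroDivisors A := by
    refine ⟨fun {a b} hab => ?_⟩
    let J : Ideal A := Module.annihilator A (Ideal.span {b})
    have hJ : ∀ c, c ∈ J ↔ c * b = 0 := fun c => by
      rw [Module.mem_annihilator]
      refine ⟨fun h => congrArg Subtype.val (h ⟨b, Ideal.mem_span_singleton_self b⟩), fun h x => Subtype.ext ?_⟩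
      obtain ⟨d, hd⟩ := Ideal.mem_span_singleton'.1 x.2
      show c * x.1 = 0
      rw [← hd, mul_left_comm, h, mul_zero]
    let J' : Ideal A := Module.annihilator A J
    have hJ' : ∀ c, c ∈ J' ↔ ∀ d ∈ J, c * d = 0 := fun c => by
      rw [Module.mem_annihilator]
      exact ⟨fun h d hd => congrArg Subtype.val (h ⟨d, hd⟩), fun h x => Subtype.ext (h x.1 x.2)⟩
    have hnz : ∀ K : Ideal A, (∀ c, c * f ∈ K → c ∈ K) → Ideal.Quotient.mk K f ∈ nonZeroDivisors (A ⧸ K) := by
      intro K hK
      rw [mem_nonZeroDivisors_iff_right]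
      intro c hc
      obtain ⟨c, rfl⟩ := Ideal.Quotient.mk_surjective c
      rw [← map_mul, Ideal.Quotient.eq_zero_iff_mem] at hc
      exact Ideal.Quotient.eq_zero_iff_mem.2 (hK c hc)
    have hK : ∀ k : ULift.{u} Bool, ∀ c, c * f ∈ (if k.down then J else J') → c ∈ (if k.down then J else J') := by
      rintro ⟨k⟩ c hc
      cases k
      · simp only [Bool.false_eq_true, ↓reduceIte] at hc ⊢
        refine (hJ' c).2 fun d hd => (mul_right_mem_nonZeroDivisors_eq_zero_iff hf).1 ?_
        rw [mul_right_comm]; exact (hJ' _).1 hc d hd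
      · simp only [↓reduceIte] at hc ⊢
        refine (hJ c).2 ((mul_right_mem_nonZeroDivisors_eq_zero_iff hf).1 ?_)
        rw [mul_right_comm]; exact (hJ _).1 hc
    obtain ⟨k, σ, hσ⟩ := h (ULift.{u} Bool) (fun k => CommRingCat.of (A ⧸ (if k.down then J else J')))
      (fun k => Ideal.Quotient.mk _) (fun k => RingHom.Finite.of_surjective _ Ideal.Quotient.mk_surjective)
      (fun k => hnz _ (hK k)) fun p => by
        by_cases hp : J ≤ p.asIdeal
        · refine ⟨⟨true⟩, ?_⟩
          rw [range_comap_of_surjective _ _ Ideal.Quotient.mk_surjective, Ideal.mk_ker]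
          exact hp
        · obtain ⟨d, hd, hdp⟩ := SetLike.not_le_iff_exists.1 hp
          refine ⟨⟨false⟩, ?_⟩
          rw [range_comap_of_surjective _ _ Ideal.Quotient.mk_surjective, Ideal.mk_ker]
          intro c hc
          exact (p.isPrime.mem_or_mem (show c * d ∈ p.asIdeal by
            rw [(hJ' c).1 hc d hd]; exact zero_mem _)).resolve_right hdp
    have hbot := eq_bot_of_retraction _ σ hσ
    obtain ⟨k⟩ := k
    cases k
    · simp only [Bool.false_eq_true, ↓reduceIte] at hbot
      right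
      refine Ideal.mem_bot.1 (hbot ▸ (hJ' b).2 fun d hd => ?_)
      rw [mul_comm]; exact (hJ d).1 hd
    · simp only [↓reduceIte] at hbot
      left
      exact Ideal.mem_bot.1 (hbot ▸ (hJ a).2 hab)
  exact NoZeroDivisors.to_isDomain A

theorem isRegular_of_flat {A : Type u} [CommRing A] {p : A[X]} (hp : p.Monic) {f : A} (hf : f ∈ nonZeroDivisors A) :
    IsRegular (AdjoinRoot.of p f) := by
  haveI := hp.free_adjoinRoot
  have h : IsSMulRegular (AdjoinRoot p) f := Module.Flat.isSMulRegular_of_nonZeroDivisors hf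
  have hl : IsLeftRegular (AdjoinRoot.of p f) := fun a b hab => h (by
    show f • a = f • b
    rw [Algebra.smul_def, Algebra.smul_def]; exact hab)
  exact ⟨hl, hl.right_of_commute fun a => mul_comm _ _⟩

theorem isAIC_of_retractions {A : Type u} [CommRing A] [IsDomain A] {f : A} (hf : f ∈ nonZeroDivisors A)
    (h : HasRetractions A f) : Curves.IsAIC A := by
  intro p hp hdeg
  haveI := hp.free_adjoinRoot
  haveI := hp.finite_adjoinRoot
  have hinj : Function.Injective (algebraMap A (AdjoinRoot p)) := AdjoinRoot.of.injective_of_degree_ne_zero (by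
      intro h0
      rw [Polynomial.degree_eq_natDegree hp.ne_zero] at h0
      exact hdeg.ne' (by exact_mod_cast h0))
  haveI : FaithfulSMul A (AdjoinRoot p) := (faithfulSMul_iff_algebraMap_injective A _).2 hinj
  haveI : Algebra.IsIntegral A (AdjoinRoot p) := Algebra.IsIntegral.of_finite A _
  obtain ⟨-, σ, hσ⟩ := h PUnit (fun _ => CommRingCat.of (AdjoinRoot p)) (fun _ => AdjoinRoot.of p)
    (fun _ => RingHom.finite_algebraMap.2 hp.finite_adjoinRoot)
    (fun _ => isRegular_iff_mem_nonZeroDivisors.1 (isRegular_of_flat hp hf))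
    (fun q => ⟨⟨⟩, by
      haveI := q.isPrime
      obtain ⟨Q, -, hQp, hQ⟩ := Ideal.exists_ideal_over_prime_of_isIntegral q.asIdeal (⊥ : Ideal (AdjoinRoot p))
        (by rw [← RingHom.ker_eq_comap_bot, (RingHom.injective_iff_ker_eq_bot _).1 hinj]; exact bot_le)
      exact ⟨⟨Q, hQp⟩, PrimeSpectrum.ext hQ⟩⟩)
  refine ⟨σ (AdjoinRoot.root p), ?_⟩
  have := congrArg σ (AdjoinRoot.eval₂_root p)
  rw [map_zero, Polynomial.hom_eval₂, hσ] at this
  exact this

theorem surjective_of_isAIC {A B : Type u} [CommRing A] [CommRing B] [IsDomain B] [Algebra A B]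
    [Algebra.IsIntegral A B] (h : Curves.IsAIC A) : Function.Surjective (algebraMap A B) := by
  intro b
  haveI : Nontrivial A := (algebraMap A B).domain_nontrivial
  obtain ⟨p, hp, hpb⟩ := Algebra.IsIntegral.isIntegral (R := A) b
  induction hn : p.natDegree using Nat.strong_induction_on generalizing p with
  | _ n ih =>
    rcases Nat.eq_zero_or_pos n with rfl | hpos
    · rw [Polynomial.eq_one_of_monic_natDegree_zero hp hn, Polynomial.eval₂_one] at hpb
      exact absurd hpb one_ne_zero
    · obtain ⟨r, hr⟩ := h p hp (hn ▸ hpos)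
      obtain ⟨q, hq⟩ := Polynomial.dvd_iff_isRoot.2 (show p.IsRoot r from hr)
      have hqm : q.Monic := (Polynomial.monic_X_sub_C r).of_mul_monic_left (hq ▸ hp)
      rw [hq, Polynomial.eval₂_mul, mul_eq_zero, Polynomial.eval₂_sub, Polynomial.eval₂_X, Polynomial.eval₂_C,
        sub_eq_zero] at hpb
      rcases hpb with hb | hb
      · exact ⟨r, hb.symm⟩
      · refine ih q.natDegree ?_ q hqm hb rfl
        have : p.natDegree = 1 + q.natDegree := by
          rw [hq, (Polynomial.monic_X_sub_C r).natDegree_mul hqm, Polynomial.natDegree_X_sub_C]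
        omega

/-- Absolute integral closedness passes to localisations. -/
theorem isAIC_of_isLocalization {R : Type u} [CommRing R] (M : Submonoid R) (S : Type u) [CommRing S]
    [Algebra R S] [IsLocalization M S] (h : Curves.IsAIC R) : Curves.IsAIC S := by
  intro p hp hdeg
  obtain ⟨d, hdM, hdp⟩ := IsLocalization.integerNormalization_spec M p
  have hlift : p.scaleRoots (algebraMap R S d) ∈ Polynomial.lifts (algebraMap R S) := by
    refine (Polynomial.lifts_iff_coeff_lifts _).2 fun i => ?_
    rw [Polynomial.coeff_scaleRoots]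
    rcases lt_trichotomy i p.natDegree with hi | hi | hi
    · refine ⟨(IsLocalization.integerNormalization M p).coeff i * d ^ (p.natDegree - i - 1), ?_⟩
      rw [map_mul, map_pow, ← Polynomial.coeff_map, hdp, Polynomial.coeff_smul, Algebra.smul_def,
        mul_comm (algebraMap R S d), mul_assoc, ← pow_succ']
      congr 2
      omega
    · exact ⟨1, by rw [hi, hp.coeff_natDegree, map_one, Nat.sub_self, pow_zero, mul_one]⟩
    · exact ⟨0, by rw [Polynomial.coeff_eq_zero_of_natDegree_lt hi, map_zero, zero_mul]⟩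
  obtain ⟨q, hq, hqdeg, hqm⟩ := Polynomial.lifts_and_natDegree_eq_and_monic hlift
    ((Polynomial.monic_scaleRoots_iff _).2 hp)
  obtain ⟨r, hr⟩ := h q hqm (by rw [hqdeg, Polynomial.natDegree_scaleRoots]; exact hdeg)
  obtain ⟨v, hv⟩ := IsLocalization.map_units S ⟨d, hdM⟩
  refine ⟨↑v⁻¹ * algebraMap R S r, ?_⟩
  have h0 : (p.scaleRoots (algebraMap R S d)).eval₂ (RingHom.id S) (algebraMap R S r) = 0 := by
    rw [← hq, Polynomial.eval₂_map, RingHom.id_comp, Polynomial.eval₂_at_apply, hr, map_zero]
  rw [show algebraMap R S r = (RingHom.id S) (algebraMap R S d) * (↑v⁻¹ * algebraMap R S r) by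
    rw [RingHom.id_apply, ← hv, Units.mul_inv_cancel_left], Polynomial.scaleRoots_eval₂_mul] at h0
  refine ((IsUnit.pow _ ?_).mul_right_eq_zero).1 h0
  rw [RingHom.id_apply]; exact IsLocalization.map_units S ⟨d, hdM⟩

theorem isAIC_of_surjective {R S : Type u} [CommRing R] [CommRing S] (φ : R →+* S) (hφ : Function.Surjective φ)
    (h : Curves.IsAIC R) : Curves.IsAIC S := by
  intro p hp hdeg
  obtain ⟨q, hq, hqdeg, hqm⟩ := Polynomial.lifts_and_natDegree_eq_and_monic
    ((Polynomial.lifts_iff_coeff_lifts _).2 fun i => hφ (p.coeff i)) hp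
  obtain ⟨r, hr⟩ := h q hqm (hqdeg ▸ hdeg)
  exact ⟨φ r, by rw [← hq, Polynomial.eval_map, Polynomial.eval₂_at_apply, hr, map_zero]⟩

theorem isAIC_congr {R S : Type u} [CommRing R] [CommRing S] (e : R ≃+* S) (h : Curves.IsAIC R) :
    Curves.IsAIC S := isAIC_of_surjective e.toRingHom e.surjective h

theorem isAlgClosed_of_isAIC {K : Type u} [Field K] (h : Curves.IsAIC K) : IsAlgClosed K :=
  IsAlgClosed.of_exists_root _ fun p hp hirr => h p hp hirr.natDegree_pos

/-- A finite family hitting the generic point admits a section over an absolutely integrally closed domain. -/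
theorem exists_lift_finite {A : Type u} [CommRing A] [IsDomain A] (h : Curves.IsAIC A) {X Y : Scheme.{u}}
    (w : Y ⟶ X) [IsFinite w] (g : Spec (CommRingCat.of A) ⟶ X) (y : Y)
    (hy : w.base y = g.base (⊥ : PrimeSpectrum A)) : ∃ l : Spec (CommRingCat.of A) ⟶ Y, l ≫ w = g := by
  obtain ⟨z, hz, -⟩ := Scheme.Pullback.exists_preimage_pullback (f := g) (g := w) (⊥ : PrimeSpectrum A) y hy.symm
  haveI : IsAffine (pullback g w) := isAffine_of_isAffineHom (pullback.fst g w)
  obtain ⟨φ, hφ⟩ := Spec.map_surjective ((pullback g w).isoSpec.inv ≫ pullback.fst g w)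
  have hfin : IsFinite (Spec.map φ) := by rw [hφ]; infer_instance
  have hfin' : φ.hom.Finite := (IsFinite.SpecMap_iff φ).1 hfin
  let B := Γ(pullback g w, ⊤)
  letI : Algebra A B := φ.hom.toAlgebra
  haveI : Module.Finite A B := hfin'
  let Q := ((pullback g w).isoSpec.hom.base z : PrimeSpectrum B)
  have hQ : Q.asIdeal.comap φ.hom = ⊥ := by
    have h1 : (Spec.map φ).base ((pullback g w).isoSpec.hom.base z) = (⊥ : PrimeSpectrum A) := by
      rw [hφ, ← Scheme.Hom.comp_apply, Iso.hom_inv_id_assoc, hz]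
    exact congrArg PrimeSpectrum.asIdeal h1
  haveI := Q.isPrime
  have hbij : Function.Bijective ((Ideal.Quotient.mk Q.asIdeal).comp φ.hom) := by
    refine ⟨(RingHom.injective_iff_ker_eq_bot _).2 ?_, ?_⟩
    · rw [RingHom.ker, ← Ideal.comap_comap, ← RingHom.ker, Ideal.mk_ker, hQ]
    · haveI : Algebra.IsIntegral A (B ⧸ Q.asIdeal) := Algebra.IsIntegral.of_finite A _
      exact surjective_of_isAIC h
  let σ : B →+* A := (RingEquiv.ofBijective _ hbij).symm.toRingHom.comp (Ideal.Quotient.mk Q.asIdeal)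
  have hσ : σ.comp φ.hom = RingHom.id A := RingHom.ext fun a => (RingEquiv.ofBijective _ hbij).symm_apply_apply a
  refine ⟨Spec.map (CommRingCat.ofHom σ) ≫ (pullback g w).isoSpec.inv ≫ pullback.snd g w, ?_⟩
  rw [Category.assoc, Category.assoc, ← pullback.condition, ← Category.assoc (f := (pullback g w).isoSpec.inv),
    ← hφ, ← Category.assoc, ← Spec.map_comp]
  have : φ ≫ CommRingCat.ofHom σ = 𝟙 _ := CommRingCat.hom_ext hσ
  rw [this, Spec.map_id, Category.id_comp]

/-- A section of a member of a covering of the spectrum gives a retraction. -/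
theorem retraction_of_section {P : Scheme.{u}} [IsAffine P] {B : CommRingCat.{u}} (φ : Γ(P, ⊤) →+* B)
    (h : P ⟶ Spec B) (e : h ≫ Spec.map (CommRingCat.ofHom φ) ≫ P.isoSpec.inv = 𝟙 P) :
    ∃ σ : B →+* Γ(P, ⊤), σ.comp φ = RingHom.id _ := by
  obtain ⟨σ, hσ⟩ := Spec.map_surjective (P.isoSpec.inv ≫ h)
  refine ⟨σ.hom, congrArg CommRingCat.Hom.hom (Spec.map_injective (a₁ := CommRingCat.ofHom φ ≫ σ) (a₂ := 𝟙 _) ?_)⟩
  rw [Spec.map_comp, Spec.map_id, hσ, ← cancel_mono P.isoSpec.inv]
  simp only [Category.assoc, e, Category.comp_id]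
  exact (Category.id_comp _).symm

/-- A map out of an absolutely integrally closed domain lifts through a finite map hitting its generic point. -/
theorem exists_lift_finite_affine {P : Scheme.{u}} [IsAffine P] [IsDomain Γ(P, ⊤)] (h : Curves.IsAIC Γ(P, ⊤))
    {X Y : Scheme.{u}} (w : Y ⟶ X) [IsFinite w] (g : P ⟶ X) (y : Y)
    (hy : w.base y = g.base (P.isoSpec.inv.base (⊥ : PrimeSpectrum Γ(P, ⊤)))) :
    ∃ l : P ⟶ Y, l ≫ w = g := by
  obtain ⟨l, hl⟩ := exists_lift_finite h w (P.isoSpec.inv ≫ g) y (hy.trans (Scheme.Hom.comp_apply _ _ _).symm)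
  exact ⟨P.isoSpec.hom ≫ l, by rw [Category.assoc, hl, Iso.hom_inv_id_assoc]⟩

end Groth.Agent.ModPairLib
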