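import Groth.Agent.ModPairLib.Prod
import Groth.Agent.BlowExist.Main

/-!
Existence of ambient products.
-/

set_option autoImplicit false
universe u

open CategoryTheory Limits AlgebraicGeometry

namespace Groth.Agent.ModPairLib

variable {X S T : Scheme.{u}}

theorem exists_ambProd (f : X ⟶ S) (g : T ⟶ S) {I : X.IdealSheafData} {J : T.IdealSheafData}
    (hI : BlowUp.IsEffCartierIdeal I) (hJ : BlowUp.IsEffCartierIdeal J) :
    ∃ (Y : Scheme.{u}) (π : Y ⟶ ModPair.mprod f g I J) (K : Y.IdealSheafData), ModPair.IsAmbProd f g I J π K := by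
  obtain ⟨Y, π, hπ⟩ := BlowExist.exists_isBlowUp (ModPair.prodCentre f g I J)
  have hC := hπ.1
  rw [ModPair.prodCentre, Scheme.IdealSheafData.comap_sup] at hC
  refine ⟨Y, π, (I.comap (ModPair.mprodι f g I J ≫ pullback.fst f g)).comap π ⊓
    (J.comap (ModPair.mprodι f g I J ≫ pullback.snd f g)).comap π, hπ, ?_⟩
  rw [ModPair.prodCentre, Scheme.IdealSheafData.comap_sup]
  exact inf_mul_sup (isEffCartier_blowUp_fst hI hJ hπ) (isEffCartier_blowUp_snd hI hJ hπ) hC

end Groth.Agent.ModPairLib
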