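import Groth.Prelude.Def_W4c6modpairsegaMP
import Groth.Agent.DivPts.Cartier
import Groth.Agent.FpqcDescent.IdealComap
import Groth.Agent.SchDomLib.Basic
import Groth.Agent.S2299

/-!
Modulus pairs: charts, schematic density of interiors, pull back of effective Cartier ideal sheaves.
-/

set_option autoImplicit false
universe u

open CategoryTheory Limits AlgebraicGeometry

namespace Groth.Agent.ModPairLib

variable {X Y Z : Scheme.{u}}

theorem interior_mono {I J : X.IdealSheafData} (h : I ≤ J) : ModPair.interior I ≤ ModPair.interior J :=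
  fun _ hx hx' => hx (Scheme.IdealSheafData.support_antitone h hx')

theorem interior_comap (J : Y.IdealSheafData) (f : X ⟶ Y) :
    ModPair.interior (J.comap f) = f ⁻¹ᵁ ModPair.interior J := by
  ext x
  simp [ModPair.interior, Scheme.IdealSheafData.support_comap]

theorem interior_le_of_ambient {I : X.IdealSheafData} {J : Y.IdealSheafData} {f : X ⟶ Y}
    (h : ModPair.IsAmbient I J f) : ModPair.interior I ≤ f ⁻¹ᵁ ModPair.interior J :=
  (interior_mono h).trans (interior_comap J f).le

theorem std_of_le {U V : X.Opens} (h : U ≤ V) [IsSchemeTheoreticallyDominant U.ι] :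
    IsSchemeTheoreticallyDominant V.ι := by
  refine ⟨le_bot_iff.1 ?_⟩
  have := (X.homOfLE h).le_ker_comp V.ι
  rwa [X.homOfLE_ι h, U.ι.ker_eq_bot] at this

theorem isAffineHom_interior {I : X.IdealSheafData} (hI : BlowUp.IsEffCartierIdeal I) :
    IsAffineHom (ModPair.interior I).ι :=
  (DivPts.compl_affine_dense I hI).1

theorem std_interior {I : X.IdealSheafData} (hI : BlowUp.IsEffCartierIdeal I) :
    IsSchemeTheoreticallyDominant (ModPair.interior I).ι :=
  (DivPts.compl_affine_dense I hI).2

theorem isAffineHom_preimage {J : Y.IdealSheafData} (hJ : BlowUp.IsEffCartierIdeal J) (f : X ⟶ Y) :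
    IsAffineHom (f ⁻¹ᵁ ModPair.interior J).ι :=
  MorphismProperty.of_isPullback (isPullback_morphismRestrict f (ModPair.interior J))
    (isAffineHom_interior hJ)

/-- Morphisms to a separated scheme agreeing on the interior are equal. -/
theorem hom_ext {I : X.IdealSheafData} (hI : BlowUp.IsEffCartierIdeal I) {S : Scheme.{u}} (q : Z ⟶ S)
    [IsSeparated q] (a b : X ⟶ Z) (h : a ≫ q = b ≫ q)
    (h' : (ModPair.interior I).ι ≫ a = (ModPair.interior I).ι ≫ b) : a = b :=
  haveI := std_interior hI
  S2299.result (ModPair.interior I).ι q a b h h'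

theorem app_injective_of_std {U : X.Opens} [IsSchemeTheoreticallyDominant U.ι] [QuasiCompact U.ι] :
    CInt.IsSchematicallyDense U :=
  SchDomLib.isSchematicallyDense_of_injective fun V => U.ι.app_injective V

/-- Pull-back of an effective Cartier divisor along a morphism with schematically dense preimage of the interior. -/
theorem isEffCartier_comap {J : Y.IdealSheafData} (hJ : BlowUp.IsEffCartierIdeal J) (f : X ⟶ Y)
    [IsSchemeTheoreticallyDominant (f ⁻¹ᵁ ModPair.interior J).ι] :
    BlowUp.IsEffCartierIdeal (J.comap f) := by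
  intro x
  obtain ⟨U, hxU, g, hg0, hg⟩ := hJ (f.base x)
  obtain ⟨V, hV, hxV, hVU⟩ := exists_isAffineOpen_mem_and_subset (U := f ⁻¹ᵁ U.1) (x := x) hxU
  refine ⟨⟨V, hV⟩, hxV, (f.appLE U.1 V hVU).hom g, ?_, ?_⟩
  · haveI := isAffineHom_preimage hJ f
    have hdense := app_injective_of_std (U := f ⁻¹ᵁ ModPair.interior J) V
    have hle : V ⊓ f ⁻¹ᵁ ModPair.interior J ≤ X.basicOpen ((f.appLE U.1 V hVU).hom g) := by
      intro y hy
      refine (Scheme.basicOpen_appLE f V U.1 hVU g).ge ⟨hy.1, show f.base y ∈ Y.basicOpen g from ?_⟩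
      rw [← DivPts.compl_inf_eq_basicOpen J U hg]
      exact ⟨hy.2, hVU hy.1⟩
    refine mem_nonZeroDivisors_of_injective (f := (X.presheaf.map (homOfLE (inf_le_left :
      V ⊓ f ⁻¹ᵁ ModPair.interior J ≤ V)).op).hom) hdense ?_
    have hu := (X.toRingedSpace.isUnit_res_basicOpen ((f.appLE U.1 V hVU).hom g)).map
      (X.presheaf.map (homOfLE hle).op).hom
    have he : (X.presheaf.map (homOfLE (X.basicOpen_le ((f.appLE U.1 V hVU).hom g))).op ≫
        X.presheaf.map (homOfLE hle).op) = X.presheaf.map (homOfLE (inf_le_left : V ⊓ f ⁻¹ᵁ ModPair.interior J ≤ V)).op := by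
      rw [← Functor.map_comp]; rfl
    rw [← he]
    exact hu.mem_nonZeroDivisors
  · rw [FpqcDescent.ideal_comap J f U ⟨V, hV⟩ hVU, hg, Ideal.map_span, Set.image_singleton]

/-- The pulled back modulus of an ambient morphism is effective Cartier. -/
theorem isEffCartier_comap_of_ambient {I : X.IdealSheafData} {J : Y.IdealSheafData}
    (hI : BlowUp.IsEffCartierIdeal I) (hJ : BlowUp.IsEffCartierIdeal J) {f : X ⟶ Y}
    (h : ModPair.IsAmbient I J f) : BlowUp.IsEffCartierIdeal (J.comap f) :=
  haveI := std_interior hI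
  haveI := std_of_le (interior_le_of_ambient h)
  isEffCartier_comap hJ f

end Groth.Agent.ModPairLib
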