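import Groth.Agent.ModPairLib.Refine

/-!
Division of effective Cartier ideal sheaves.
-/

set_option autoImplicit false
set_option maxHeartbeats 800000
universe u

open CategoryTheory Limits AlgebraicGeometry

namespace Groth.Agent.ModPairLib

variable {X : Scheme.{u}}

theorem exists_colon (A B : X.IdealSheafData) (hB : BlowUp.IsFiniteTypeIdeal B) :
    ∃ Q : X.IdealSheafData, ∀ V, Q.ideal V = (A.ideal V).colon (B.ideal V : Set Γ(X, V.1)) := by
  classical
  refine ⟨{ ideal := fun V => (A.ideal V).colon (B.ideal V : Set Γ(X, V.1)), map_ideal_basicOpen := fun V f => ?_ },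
    fun V => rfl⟩
  let a : Γ(X, V.1) →+* Γ(X, (X.affineBasicOpen f).1) := (X.presheaf.map (homOfLE <| X.basicOpen_le f).op).hom
  letI : Algebra Γ(X, V.1) Γ(X, (X.affineBasicOpen f).1) := a.toAlgebra
  haveI : IsLocalization.Away f Γ(X, (X.affineBasicOpen f).1) := V.2.isLocalization_basicOpen f
  have hA : A.ideal (X.affineBasicOpen f) = (A.ideal V).map a := (A.map_ideal_basicOpen V f).symm
  have hB' : B.ideal (X.affineBasicOpen f) = (B.ideal V).map a := (B.map_ideal_basicOpen V f).symm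
  refine le_antisymm ?_ ?_
  · refine Ideal.map_le_iff_le_comap.2 fun r hr => Submodule.mem_colon.2 fun s hs => ?_
    have hs' : s ∈ (B.ideal V).map a := hB' ▸ hs
    show a r * s ∈ A.ideal (X.affineBasicOpen f)
    rw [hA]
    refine Submodule.span_induction ?_ (by simp) (fun x y _ _ hx hy => by simpa [mul_add] using add_mem hx hy)
      (fun c x _ hx => by simpa [mul_left_comm] using Ideal.mul_mem_left _ c hx) hs'
    rintro _ ⟨b, hb, rfl⟩
    rw [← map_mul]
    exact Ideal.mem_map_of_mem a (Submodule.mem_colon.1 hr b hb)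
  · intro (z : Γ(X, (X.affineBasicOpen f).1)) hz
    obtain ⟨⟨r, s⟩, hz'⟩ := IsLocalization.surj (S := Γ(X, (X.affineBasicOpen f).1)) (Submonoid.powers f) z
    obtain ⟨G, hG⟩ := hB V
    have key : ∀ b : G, ∃ n : ℕ, f ^ n * r * b.1 ∈ A.ideal V := fun b => by
      have hb : a b.1 ∈ B.ideal (X.affineBasicOpen f) :=
        hB' ▸ Ideal.mem_map_of_mem a (hG ▸ Ideal.subset_span b.2)
      have h1 : a r * a b.1 ∈ (A.ideal V).map a := by
        rw [← hA, show a r = z * a s.1 from hz'.symm, mul_comm z, mul_assoc]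
        exact Ideal.mul_mem_left _ _ (show z * a b.1 ∈ A.ideal (X.affineBasicOpen f) from hz ⟨_, hb, rfl⟩)
      rw [← map_mul] at h1
      obtain ⟨⟨c, t⟩, hc⟩ := (IsLocalization.mem_map_algebraMap_iff (Submonoid.powers f) Γ(X, (X.affineBasicOpen f).1)).1 h1
      obtain ⟨⟨t', ht'⟩, e⟩ := (IsLocalization.eq_iff_exists (Submonoid.powers f) Γ(X, (X.affineBasicOpen f).1)).1
        ((map_mul a (r * b.1) t.1).trans hc)
      obtain ⟨n, hn⟩ := ht'
      obtain ⟨m, hm⟩ := t.2
      refine ⟨n + m, ?_⟩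
      have e2 : t' * (r * b.1 * t.1) = t' * c.1 := e
      have hn' : f ^ n = t' := hn
      have hm' : f ^ m = t.1 := hm
      rw [pow_add, hn', hm', show t' * t.1 * r * b.1 = t' * (r * b.1 * t.1) by ring, e2]
      exact Ideal.mul_mem_left _ _ c.2
    choose n hn using key
    have hr : f ^ (Finset.univ.sup n) * r ∈ (A.ideal V).colon (B.ideal V : Set Γ(X, V.1)) := by
      refine Submodule.mem_colon.2 fun b hb => ?_
      show _ * b ∈ A.ideal V
      have hb' : b ∈ Ideal.span (G : Set Γ(X, V.1)) := hG.symm ▸ hb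
      refine Submodule.span_induction (fun g hg => ?_) (by simp)
        (fun x y _ _ hx hy => by simpa [mul_add] using add_mem hx hy)
        (fun c x _ hx => by simpa [mul_left_comm] using Ideal.mul_mem_left _ c hx) hb'
      obtain ⟨k, hk⟩ := Nat.exists_eq_add_of_le (Finset.le_sup (f := n) (Finset.mem_univ (⟨g, hg⟩ : G)))
      rw [hk, pow_add, show f ^ n ⟨g, hg⟩ * f ^ k * r * g = f ^ k * (f ^ n ⟨g, hg⟩ * r * g) by ring]
      exact Ideal.mul_mem_left _ _ (hn ⟨g, hg⟩)
    refine (IsLocalization.mem_map_algebraMap_iff (Submonoid.powers f) Γ(X, (X.affineBasicOpen f).1)).2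
      ⟨(⟨_, hr⟩, ⟨f ^ (Finset.univ.sup n), Submonoid.mem_powers_iff _ _ |>.2 ⟨_, rfl⟩⟩ * s), ?_⟩
    show z * a (_ * s.1) = a (_ * r)
    rw [map_mul, map_mul, show a r = z * a s.1 from hz'.symm]
    ring

/-- Division of effective Cartier ideal sheaves. -/
theorem exists_div {A B : X.IdealSheafData} (hA : BlowUp.IsEffCartierIdeal A) (hB : BlowUp.IsEffCartierIdeal B)
    (h : A ≤ B) : ∃ Q : X.IdealSheafData, BlowUp.IsEffCartierIdeal Q ∧ A = Q * B := by
  obtain ⟨Q, hQ⟩ := exists_colon A B (sup_idem B ▸ isFiniteTypeIdeal_sup hB hB)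
  have key : ∀ x : X, ∃ V : X.affineOpens, x ∈ V.1 ∧ ∃ a b c, a ∈ nonZeroDivisors Γ(X, V.1) ∧
      a = c * b ∧ A.ideal V = Ideal.span {a} ∧ B.ideal V = Ideal.span {b} ∧ Q.ideal V = Ideal.span {c} := by
    intro x
    obtain ⟨V, hxV, a, b, e, ha, hb, -, -⟩ := exists_chart₃ hA hB hB x
    obtain ⟨c, hc⟩ := Ideal.mem_span_singleton'.1 (hb ▸ h V (ha ▸ Ideal.mem_span_singleton_self a))
    refine ⟨V, hxV, a, b, c, nzd_of_span hA V ha, hc.symm, ha, hb, ?_⟩
    rw [hQ V, ha, hb]
    refine le_antisymm (fun r hr => ?_) ((Ideal.span_singleton_le_iff_mem _).2 (Submodule.mem_colon.2 fun s hs => ?_))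
    · obtain ⟨d, hd⟩ := Ideal.mem_span_singleton'.1 (Submodule.mem_colon.1 hr b (Ideal.mem_span_singleton_self b))
      refine Ideal.mem_span_singleton'.2 ⟨d, ((nzd_of_span hB V hb).1 |> fun _ => ?_)⟩
      have h' : d * (c * b) = r * b := by rw [hc]; exact hd
      refine (isRegular_iff_mem_nonZeroDivisors.2 (nzd_of_span hB V hb)).right ?_
      show d * c * b = r * b
      rw [mul_assoc, h']
    · obtain ⟨d, rfl⟩ := Ideal.mem_span_singleton'.1 hs
      exact Ideal.mem_span_singleton'.2 ⟨d, by rw [← hc, smul_eq_mul]; ring⟩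
  refine ⟨Q, fun x => ?_, ext_of_charts fun x => ?_⟩
  · obtain ⟨V, hxV, a, b, c, ha0, hac, -, -, hc⟩ := key x
    exact ⟨V, hxV, c, (mul_mem_nonZeroDivisors.1 (hac ▸ ha0)).1, hc⟩
  · obtain ⟨V, hxV, a, b, c, -, hac, ha, hb, hc⟩ := key x
    refine ⟨V, hxV, ?_⟩
    rw [Scheme.IdealSheafData.ideal_mul, Pi.mul_apply, ha, hb, hc, Ideal.span_singleton_mul_span_singleton, hac]

theorem top_mul_eq (E : X.IdealSheafData) : ⊤ * E = E := one_mul E

theorem eq_top_of_mul {Q E : X.IdealSheafData} (hE : BlowUp.IsEffCartierIdeal E) (h : Q * E = E) : Q = ⊤ :=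
  mul_right_cancel hE (h.trans (top_mul_eq E).symm)

theorem eq_top_of_support {Q : X.IdealSheafData} (h : ∀ x : X, x ∈ ModPair.interior Q) : Q = ⊤ :=
  (Scheme.IdealSheafData.support_eq_bot_iff Q).1 <| SetLike.ext fun x => ⟨fun hx => absurd hx (h x), fun hx => hx.elim⟩

end Groth.Agent.ModPairLib
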