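import Groth.Agent.ModPairLib.LocalPair
import Groth.Agent.Hensel.EtaleLift
import Groth.Agent.Hensel.Henselization
import Groth.Agent.IndEt.Retract
import Groth.Prelude.Def_EtBase

/-!
Henselian properties of pairs local for étale coverings.
-/

set_option autoImplicit false
set_option maxHeartbeats 800000
universe u

open CategoryTheory CategoryTheory.Limits AlgebraicGeometry TopologicalSpace Polynomial TensorProduct

namespace Groth.Agent.ModPairLib

theorem scaleRoots_eq_comp {S : Type u} [CommRing S] (p : S[X]) (v : Sˣ) :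
    p.scaleRoots (v : S) = C ((v : S) ^ p.natDegree) * p.comp (C (↑v⁻¹ : S) * X) := by
  ext i
  rw [coeff_scaleRoots, coeff_C_mul, comp_C_mul_X_coeff]
  by_cases hi : i ≤ p.natDegree
  · obtain ⟨k, hk⟩ := Nat.exists_eq_add_of_le hi
    rw [hk, Nat.add_sub_cancel_left, mul_left_comm, pow_add, mul_comm ((v : S) ^ i) ((v : S) ^ k), mul_assoc,
      ← mul_pow, Units.mul_inv, one_pow, mul_one]
  · rw [coeff_eq_zero_of_natDegree_lt (not_le.1 hi), zero_mul, zero_mul, mul_zero]

/-- Hensel's lemma with a derivative outside a deep prime. -/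
theorem exists_root_of_deep {A : Type u} [CommRing A] [HenselianLocalRing A] (𝔮 : Ideal A) [𝔮.IsPrime]
    (hdiv : ∀ c ∈ 𝔮, ∀ δ ∉ 𝔮, ∃ c' ∈ 𝔮, c = δ * c') (q : A[X]) (hq : q.Monic) (b : A)
    (hb : q.eval b ∈ 𝔮) (hb' : q.derivative.eval b ∉ 𝔮) :
    ∃ x, q.eval x = 0 ∧ x - b ∈ 𝔮 := by
  have hqm : 𝔮 ≤ IsLocalRing.maximalIdeal A := IsLocalRing.le_maximalIdeal ‹𝔮.IsPrime›.ne_top
  set δ := q.derivative.eval b with hδ
  obtain ⟨c, hc, hqb⟩ := hdiv _ hb (δ * δ) fun h => hb' ((‹𝔮.IsPrime›.mem_or_mem h).elim id id)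
  obtain ⟨m, hm⟩ : ∃ m, q.natDegree = m + 1 := Nat.exists_eq_succ_of_ne_zero fun h0 => hb' (by
    rw [hδ, Polynomial.eq_one_of_monic_natDegree_zero hq h0, derivative_one, eval_zero]; exact 𝔮.zero_mem)
  set Q := Polynomial.taylor b q with hQ
  have hQ0 : Q.coeff 0 = δ * δ * c := by rw [hQ, Polynomial.taylor_coeff_zero, hqb]
  have hQ1 : Q.coeff 1 = δ := by rw [hQ, Polynomial.taylor_coeff_one]
  let e : ℕ → A := fun i => Q.coeff (i + 2) * δ ^ i * (-1) ^ i * c ^ (i + 1)
  let L : A[X] := ∑ i ∈ Finset.range m, C (e i) * X ^ (m - 1 - i)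
  let W : A[X] := X ^ (m + 1) + (L - X ^ m)
  have hWm : W.Monic := by
    refine monic_X_pow_add (Nat.cast_lt.2 (Nat.lt_succ_self m) |> lt_of_le_of_lt ?_)
    refine degree_le_iff_coeff_zero _ _ |>.2 fun k hk => ?_
    have hk' : m < k := by exact_mod_cast hk
    rw [coeff_sub, coeff_X_pow, if_neg hk'.ne', sub_zero, finsetSum_coeff]
    refine Finset.sum_eq_zero fun i _ => ?_
    rw [coeff_C_mul, coeff_X_pow, if_neg (by omega), mul_zero]
  have he : ∀ i, e i ∈ IsLocalRing.maximalIdeal A := fun i => by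
    show _ * c ^ (i + 1) ∈ _
    rw [pow_succ']
    exact Ideal.mul_mem_left _ _ (Ideal.mul_mem_right _ _ (hqm hc))
  have hev : W.eval 1 ∈ IsLocalRing.maximalIdeal A := by
    simp only [W, L, eval_add, eval_sub, eval_finsetSum, eval_mul, eval_C, eval_pow, eval_X, one_pow, mul_one]
    rw [show (1 : A) + (∑ i ∈ Finset.range m, e i - 1) = ∑ i ∈ Finset.range m, e i by ring]
    exact Ideal.sum_mem _ fun i _ => he i
  have hder : IsUnit (W.derivative.eval 1) := by
    by_contra hu
    rw [← mem_nonunits_iff, ← IsLocalRing.mem_maximalIdeal] at hu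
    refine (IsLocalRing.maximalIdeal.isMaximal A).ne_top ((Ideal.eq_top_iff_one _).2 ?_)
    simp only [W, L, derivative_add, derivative_sub, derivative_sum, derivative_C_mul, derivative_X_pow, eval_add,
      eval_sub, eval_finsetSum, eval_mul, eval_C, eval_pow, eval_X, one_pow, mul_one] at hu
    have hs : ∑ i ∈ Finset.range m, e i * ((m - 1 - i : ℕ) : A) ∈ IsLocalRing.maximalIdeal A :=
      Ideal.sum_mem _ fun i _ => Ideal.mul_mem_right _ _ (he i)
    convert Ideal.sub_mem _ hu hs using 1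
    push_cast
    ring
  obtain ⟨w, hw, hw1⟩ := HenselianLocalRing.is_henselian W hWm 1 hev hder
  obtain ⟨v, rfl⟩ : IsUnit w := by
    by_contra hu
    rw [← mem_nonunits_iff, ← IsLocalRing.mem_maximalIdeal] at hu
    refine (IsLocalRing.maximalIdeal.isMaximal A).ne_top ((Ideal.eq_top_iff_one _).2 ?_)
    simpa using Ideal.sub_mem _ hu hw1
  set y := -c * (↑v⁻¹ : A) with hy
  refine ⟨δ * y + b, ?_, by
    rw [add_sub_cancel_right, hy]; exact Ideal.mul_mem_left _ _ (Ideal.mul_mem_right _ _ (neg_mem hc))⟩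
  rw [← Polynomial.taylor_eval, ← hQ]
  rw [eval_eq_sum_range' (n := m + 2) (by rw [hQ, natDegree_taylor, hm]; omega), Finset.sum_range_succ',
    Finset.sum_range_succ', hQ0, zero_add, hQ1]
  refine (IsUnit.mul_right_eq_zero (v.isUnit.pow (m + 1))).1 ?_
  have hW : W.eval (v : A) = 0 := hw
  simp only [W, L, eval_add, eval_sub, eval_finsetSum, eval_mul, eval_C, eval_pow, eval_X] at hW
  calc (v : A) ^ (m + 1) * (((∑ i ∈ Finset.range m, Q.coeff (i + 1 + 1) * (δ * y) ^ (i + 1 + 1)) + δ * (δ * y) ^ 1) +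
          δ * δ * c * (δ * y) ^ 0)
      = δ * δ * c * ((v : A) ^ (m + 1) + (∑ i ∈ Finset.range m, e i * (v : A) ^ (m - 1 - i) - (v : A) ^ m)) := by
        rw [mul_add, mul_add, mul_add, mul_sub, Finset.mul_sum, Finset.mul_sum]
        have hvy : (v : A) * y = -c := by rw [hy, mul_left_comm, Units.mul_inv, mul_one]
        have h1 : ∀ i ∈ Finset.range m, (v : A) ^ (m + 1) * (Q.coeff (i + 1 + 1) * (δ * y) ^ (i + 1 + 1)) =
            δ * δ * c * (e i * (v : A) ^ (m - 1 - i)) := fun i hi => by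
          obtain ⟨k, hk⟩ := Nat.exists_eq_add_of_lt (Finset.mem_range.1 hi)
          have h2 : m - 1 - i = k := by omega
          rw [h2, hk, show i + k + 1 + 1 = (i + 2) + k by ring, pow_add]
          calc (v : A) ^ (i + 2) * (v : A) ^ k * (Q.coeff (i + 1 + 1) * (δ * y) ^ (i + 1 + 1))
              = Q.coeff (i + 2) * δ ^ (i + 2) * (v : A) ^ k * ((v : A) * y) ^ (i + 2) := by ring
            _ = δ * δ * c * (e i * (v : A) ^ k) := by rw [hvy, neg_pow]; simp only [e]; ring
        rw [Finset.sum_congr rfl h1]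
        linear_combination (δ * δ * (v : A) ^ m) * hvy
    _ = 0 := by rw [hW, mul_zero]

/-- The localization at `f` of a henselian local ring is henselian when its maximal ideal lifts. -/
theorem henselianLocalRing_away {A A' : Type u} [CommRing A] [HenselianLocalRing A] [CommRing A'] [Algebra A A']
    (f : A) [IsLocalization.Away f A'] (hf0 : f ∈ nonZeroDivisors A) (𝔮 : Ideal A) [𝔮.IsPrime] (hfq : f ∉ 𝔮)
    (hbij : Set.BijOn (algebraMap A (Localization.AtPrime 𝔮)) (𝔮 : Set A)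
      (IsLocalRing.maximalIdeal (Localization.AtPrime 𝔮) : Set (Localization.AtPrime 𝔮)))
    (hq : ∀ y ∉ 𝔮, IsUnit (algebraMap A A' y)) : HenselianLocalRing A' := by
  classical
  set ρ := algebraMap A A'
  have hinj : Function.Injective ρ := IsLocalization.injective A' (Submonoid.powers_le.2 hf0)
  have hnu : ∀ c ∈ 𝔮, ¬ IsUnit (ρ c) := fun c hc hu => by
    obtain ⟨z, hz⟩ := hu.exists_right_inv
    obtain ⟨n, a, ha⟩ := IsLocalization.Away.surj f z
    have h : c * a = f ^ n := hinj (by rw [map_mul, map_pow, ← ha, ← mul_assoc, hz, one_mul])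
    exact hfq (‹𝔮.IsPrime›.mem_of_pow_mem n (h ▸ Ideal.mul_mem_right a 𝔮 hc))
  have hdiv : ∀ c ∈ 𝔮, ∀ δ ∉ 𝔮, ∃ c' ∈ 𝔮, c = δ * c' := fun c hc δ hδ => by
    obtain ⟨c', hc'q, hc'⟩ := hbij.2.2 (show IsLocalization.mk' (Localization.AtPrime 𝔮) c ⟨δ, hδ⟩ ∈
      (IsLocalRing.maximalIdeal (Localization.AtPrime 𝔮) : Set (Localization.AtPrime 𝔮)) from
        (IsLocalization.AtPrime.mk'_mem_maximal_iff (Localization.AtPrime 𝔮) 𝔮 c ⟨δ, hδ⟩).2 hc)
    refine ⟨c', hc'q, hbij.2.1 hc (Ideal.mul_mem_left _ _ hc'q) ?_⟩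
    rw [map_mul, hc']
    exact (IsLocalization.mk'_spec' (Localization.AtPrime 𝔮) c ⟨δ, hδ⟩).symm
  have hcases : ∀ z, ¬ IsUnit z → ∃ c ∈ 𝔮, ρ c = z := fun z hz => by
    obtain ⟨n, a, ha⟩ := IsLocalization.Away.surj f z
    have haq : a ∈ 𝔮 := by
      by_contra haq
      exact hz (isUnit_of_mul_isUnit_left (ha ▸ hq a haq : IsUnit (z * ρ f ^ n)))
    obtain ⟨c, hc, rfl⟩ := hdiv a haq (f ^ n) fun h => hfq (‹𝔮.IsPrime›.mem_of_pow_mem n h)
    refine ⟨c, hc, ?_⟩
    rw [map_mul, map_pow, mul_comm] at ha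
    exact (((IsLocalization.Away.algebraMap_isUnit f).pow n).mul_left_cancel ha).symm
  haveI : Nontrivial A' := hinj.nontrivial
  haveI : IsLocalRing A' := IsLocalRing.of_nonunits_add fun a b ha hb => by
    obtain ⟨a, ha', rfl⟩ := hcases a ha
    obtain ⟨b, hb', rfl⟩ := hcases b hb
    rw [← map_add]
    exact hnu _ (add_mem ha' hb')
  refine ⟨fun p hp a₀ h₀ h₁ => ?_⟩
  obtain ⟨d₁, hd₁, hdp⟩ := IsLocalization.integerNormalization_spec (Submonoid.powers f) p
  obtain ⟨n₂, a₂, ha₂⟩ := IsLocalization.Away.surj f a₀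
  set d := d₁ * f ^ n₂
  have hdM : d ∈ Submonoid.powers f := Submonoid.mul_mem _ hd₁ ⟨n₂, rfl⟩
  obtain ⟨v, hv⟩ := IsLocalization.map_units A' ⟨d, hdM⟩
  have hv' : (v : A') = ρ d := hv
  have hlift : p.scaleRoots (v : A') ∈ Polynomial.lifts ρ := by
    refine (Polynomial.lifts_iff_coeff_lifts _).2 fun i => ?_
    rw [Polynomial.coeff_scaleRoots]
    rcases lt_trichotomy i p.natDegree with hi | hi | hi
    · refine ⟨(IsLocalization.integerNormalization (Submonoid.powers f) p).coeff i * (f ^ n₂ * d ^ (p.natDegree - i - 1)), ?_⟩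
      rw [map_mul, map_mul, ← Polynomial.coeff_map, hdp, Polynomial.coeff_smul, Algebra.smul_def, hv',
        show p.natDegree - i = (p.natDegree - i - 1) + 1 by omega, Nat.add_sub_cancel, pow_succ, map_pow, map_pow]
      simp only [d, map_mul, map_pow]
      ring
    · exact ⟨1, by rw [hi, hp.coeff_natDegree, map_one, Nat.sub_self, pow_zero, mul_one]⟩
    · exact ⟨0, by rw [Polynomial.coeff_eq_zero_of_natDegree_lt hi, map_zero, zero_mul]⟩
  obtain ⟨q, hqs, -, hqm⟩ := Polynomial.lifts_and_natDegree_eq_and_monic hlift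
    ((Polynomial.monic_scaleRoots_iff _).2 hp)
  let b := d₁ * a₂
  have hb : ρ b = (v : A') * a₀ := by
    rw [hv', map_mul, ← ha₂]; simp only [d, map_mul, map_pow]; ring
  have hevq : ∀ x, ρ (q.eval x) = (v : A') ^ p.natDegree * p.eval ((↑v⁻¹ : A') * ρ x) := fun x => by
    rw [← Polynomial.eval_map_apply, hqs, scaleRoots_eq_comp]
    simp [Polynomial.eval_comp]
  have hb0 : q.eval b ∈ 𝔮 := by
    by_contra hne
    have hu := hq _ hne
    rw [hevq, hb, Units.inv_mul_cancel_left] at hu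
    exact (IsLocalRing.mem_maximalIdeal _).1 h₀ (isUnit_of_mul_isUnit_right hu)
  have hb1 : q.derivative.eval b ∉ 𝔮 := fun hmem => by
    refine hnu _ hmem ?_
    rw [← Polynomial.eval_map_apply, ← Polynomial.derivative_map, hqs, scaleRoots_eq_comp, hb]
    simp only [derivative_C_mul, derivative_comp, derivative_X, eval_mul, eval_C, eval_comp, eval_X, mul_one,
      Units.inv_mul_cancel_left]
    exact (v.isUnit.pow _).mul (v⁻¹.isUnit.mul h₁)
  obtain ⟨x, hx0, hxb⟩ := exists_root_of_deep 𝔮 hdiv q hqm b hb0 hb1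
  refine ⟨(↑v⁻¹ : A') * ρ x, ?_, ?_⟩
  · refine ((v.isUnit.pow p.natDegree).mul_right_eq_zero).1 ?_
    rw [← hevq, hx0, map_zero]
  · have h := (IsLocalRing.mem_maximalIdeal _).2 (hnu _ hxb)
    have : (↑v⁻¹ : A') * ρ x - a₀ = (↑v⁻¹ : A') * ρ (x - b) := by
      rw [map_sub, hb, mul_sub, Units.inv_mul_cancel_left]
    rw [this]
    exact Ideal.mul_mem_left _ _ h

theorem strictlyHenselian_of_surjective {A B : Type u} [CommRing A] [CommRing B] [Nontrivial B] (φ : A →+* B)
    (hφ : Function.Surjective φ) (h : EtCoh.IsStrictlyHenselianLocalRing A) :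
    EtCoh.IsStrictlyHenselianLocalRing B := by
  obtain ⟨hA, hs⟩ := h
  haveI : IsLocalRing B := IsLocalRing.of_surjective' φ hφ
  haveI : IsLocalHom φ := IsLocalHom.of_surjective φ hφ
  letI := φ.toAlgebra
  haveI : Module.Finite A B := Module.Finite.of_surjective (Algebra.linearMap A B) hφ
  refine ⟨Hensel.henselianLocalRing_of_isIntegral (R := A) B, ?_⟩
  exact Hensel.isSepClosed_of_ringEquiv (RingEquiv.ofBijective (IsLocalRing.ResidueField.map φ)
    ⟨RingHom.injective _, fun z => by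
      obtain ⟨b, rfl⟩ := IsLocalRing.residue_surjective z
      obtain ⟨a, rfl⟩ := hφ b
      exact ⟨IsLocalRing.residue A a, IsLocalRing.ResidueField.map_residue φ a⟩⟩)

/-- Étale maps hit at the image of the closed point admit lifts from strictly henselian local rings. -/
theorem exists_lift_etale {A : Type u} [CommRing A] [HenselianLocalRing A]
    [IsSepClosed (IsLocalRing.ResidueField A)] {X Y : Scheme.{u}} (w : Y ⟶ X) [Etale w]
    (g : Spec (CommRingCat.of A) ⟶ X) (y : Y) (hy : w.base y = g.base (IsLocalRing.closedPoint A)) :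
    ∃ l : Spec (CommRingCat.of A) ⟶ Y, l ≫ w = g := by
  obtain ⟨z, hz, -⟩ := Scheme.Pullback.exists_preimage_pullback (f := g) (g := w) (IsLocalRing.closedPoint A) y hy.symm
  obtain ⟨U₀, hU₀, hzU, -⟩ := exists_isAffineOpen_mem_and_subset (U := (⊤ : (pullback g w).Opens)) (x := z) trivial
  obtain ⟨φ, hφ⟩ := Spec.map_surjective (hU₀.fromSpec ≫ pullback.fst g w)
  have het : φ.hom.Etale := by
    rw [← HasRingHomProperty.Spec_iff (P := @Etale), hφ]
    infer_instance
  let E := Γ(pullback g w, U₀)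
  letI : Algebra A E := φ.hom.toAlgebra
  haveI : Algebra.Etale A E := het
  obtain ⟨q, hq⟩ : z ∈ Set.range hU₀.fromSpec.base := by rw [hU₀.range_fromSpec]; exact hzU
  let q' : PrimeSpectrum E := q
  haveI := q'.isPrime
  have hcom : q'.asIdeal.comap φ.hom = IsLocalRing.maximalIdeal A := by
    have h1 : (Spec.map φ).base q = IsLocalRing.closedPoint A := by
      rw [hφ, Scheme.Hom.comp_apply, hq, hz]
    exact congrArg PrimeSpectrum.asIdeal h1
  haveI : q'.asIdeal.LiesOver (IsLocalRing.maximalIdeal A) := ⟨hcom.symm⟩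
  let k := IsLocalRing.ResidueField A
  let K := q'.asIdeal.ResidueField
  letI : Algebra k K := ((Ideal.Quotient.lift (IsLocalRing.maximalIdeal A)
    (algebraMap A K) fun a ha => by
      rw [IsScalarTower.algebraMap_apply A E K]
      exact Ideal.algebraMap_residueField_eq_zero.2 (hcom.ge ha) : k →+* K)).toAlgebra
  haveI : IsScalarTower A k K := IsScalarTower.of_algebraMap_eq fun a => rfl
  let σ₀ : k ⊗[A] E →ₐ[k] K :=
    Algebra.TensorProduct.lift (Algebra.ofId k K) (IsScalarTower.toAlgHom A E K) fun _ _ => .all _ _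
  have hrange : ∀ x : E, algebraMap E K x ∈ (algebraMap k K).range := fun x => by
    obtain ⟨c, hc⟩ := Hensel.exists_algebraMap_eq_of_unramified σ₀ ((1 : k) ⊗ₜ[A] x)
    refine ⟨c, hc.trans ?_⟩
    exact (Algebra.TensorProduct.lift_tmul _ _ _ _ _).trans (by rw [map_one, one_mul]; rfl)
  obtain ⟨σ, hσ⟩ := exists_ringHom_lift (RingHom.injective (algebraMap k K)) (algebraMap E K) hrange
  let σA : E →ₐ[A] k := ⟨σ, fun a => RingHom.injective (algebraMap k K)
    ((RingHom.congr_fun hσ (algebraMap A E a)).trans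
      ((IsScalarTower.algebraMap_apply A E K a).symm.trans (IsScalarTower.algebraMap_apply A k K a)))⟩
  obtain ⟨τ, -, -⟩ := Hensel.existsUnique_algHom_of_residueField (R := A) (S := A) E σA
  refine ⟨Spec.map (CommRingCat.ofHom τ.toRingHom) ≫ hU₀.fromSpec ≫ pullback.snd g w, ?_⟩
  rw [Category.assoc, Category.assoc, ← pullback.condition, ← Category.assoc (f := hU₀.fromSpec), ← hφ,
    ← Category.assoc, ← Spec.map_comp]
  have : φ ≫ CommRingCat.ofHom τ.toRingHom = 𝟙 _ := CommRingCat.hom_ext (RingHom.ext τ.commutes)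
  rw [this, Spec.map_id, Category.id_comp]

end Groth.Agent.ModPairLib
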