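import Groth.Agent.ModPairLib.FppfAlg
import Groth.Agent.ModPairLib.HenselLocal
import Groth.Agent.ModPairLib.AICLocal
import Groth.Agent.S2735
import Groth.Agent.ModPairLib.Glue
import Mathlib.AlgebraicGeometry.Morphisms.QuasiFinite
import Mathlib.AlgebraicGeometry.Morphisms.FlatDescent
import Mathlib.RingTheory.AdjoinRoot

/-!
Locality for fppf coverings.
-/

set_option autoImplicit false
set_option backward.isDefEq.respectTransparency false

universe u

open CategoryTheory CategoryTheory.Limits AlgebraicGeometry TopologicalSpace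

namespace Groth.Agent.ModPairLib

/-- Locality for fppf coverings by quasi-compact quasi-separated morphisms. -/
def SchFppfLocal (T : Scheme.{u}) : Prop :=
  ∀ (X : Scheme.{u}) (R : Presieve X),
    R ∈ Scheme.precoverage (@Flat ⊓ @LocallyOfFinitePresentation ⊓ @QuasiCompact ⊓ @QuasiSeparated) X →
      ∀ g : T ⟶ X, ∃ (Y : Scheme.{u}) (w : Y ⟶ X) (h : T ⟶ Y), R w ∧ h ≫ w = g

theorem selfLocal_of_schFppfLocal {T : Scheme.{u}} [QuasiSeparatedSpace T] (h : SchFppfLocal T) :
    SelfZariskiLocal T := fun κ W hq hcov => by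
  obtain ⟨Y, w, l, hw, hl⟩ := h T (Presieve.ofArrows (fun k => (W k : Scheme.{u})) fun k => (W k).ι)
    ((Scheme.ofArrows_mem_precoverage_iff _).2 ⟨fun x => by
      obtain ⟨k, hk⟩ := Opens.mem_iSup.1 (hcov.ge (trivial : x ∈ (⊤ : T.Opens)))
      exact ⟨k, ⟨x, hk⟩, rfl⟩, fun k => ⟨⟨⟨inferInstance, inferInstance⟩, hq k⟩, inferInstance⟩⟩) (𝟙 T)
  obtain ⟨k⟩ := hw
  refine ⟨k, eq_top_iff.2 fun x _ => ?_⟩
  have := (l.base x).2
  rwa [show ((l.base x).1 : T) = x from by
    show (l ≫ (W k).ι).base x = x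
    rw [hl]; rfl] at this

theorem retraction_of_schFppfLocal {T : Scheme.{u}} [IsAffine T] (h : SchFppfLocal T)
    (D : Type u) [CommRing D] [Algebra Γ(T, ⊤) D] [Module.Free Γ(T, ⊤) D] [Module.Finite Γ(T, ⊤) D]
    [Nontrivial D] : Nonempty (D →ₐ[Γ(T, ⊤)] Γ(T, ⊤)) := by
  let φ : Γ(T, ⊤) →+* D := algebraMap _ D
  let s : Spec (CommRingCat.of D) ⟶ Spec Γ(T, ⊤) := Spec.map (CommRingCat.ofHom φ)
  haveI : Flat s := (HasRingHomProperty.Spec_iff (P := @Flat)).2
    (RingHom.flat_algebraMap_iff.2 inferInstance)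
  haveI : Module.FinitePresentation Γ(T, ⊤) D := Module.finitePresentation_of_projective _ _
  haveI : Algebra.FinitePresentation Γ(T, ⊤) D := inferInstance
  haveI : LocallyOfFinitePresentation s := (HasRingHomProperty.Spec_iff (P := @LocallyOfFinitePresentation)).2
    (RingHom.finitePresentation_algebraMap.2 inferInstance)
  haveI : Module.FaithfullyFlat Γ(T, ⊤) D := inferInstance
  have hs : Function.Surjective (s ≫ T.isoSpec.inv).base := fun x => by
    obtain ⟨q, hq⟩ := PrimeSpectrum.comap_surjective_of_faithfullyFlat (A := Γ(T, ⊤)) (B := D) (T.isoSpec.hom.base x)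
    refine ⟨q, (Scheme.Hom.comp_apply _ _ _).trans ((congrArg T.isoSpec.inv.base
      (show s.base q = _ from hq)).trans ?_)⟩
    rw [← Scheme.Hom.comp_apply, Iso.hom_inv_id]
    rfl
  obtain ⟨Y, w, l, hw, hl⟩ := h T (Presieve.singleton (s ≫ T.isoSpec.inv))
    ((Scheme.singleton_mem_precoverage_iff _ _).2 ⟨hs, ⟨⟨⟨inferInstance, inferInstance⟩, inferInstance⟩, inferInstance⟩⟩) (𝟙 T)
  cases hw
  obtain ⟨σ, hσ⟩ := retraction_of_section (B := CommRingCat.of D) φ l hl
  exact ⟨{ σ with commutes' := fun a => RingHom.congr_fun hσ a }⟩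

theorem isAIC_of_retraction {A : Type u} [CommRing A] [Nontrivial A]
    (h : ∀ (D : Type u) [CommRing D] [Algebra A D] [Module.Free A D] [Module.Finite A D] [Nontrivial D],
      Nonempty (D →ₐ[A] A)) : Curves.IsAIC A := by
  intro p hp hdeg
  haveI := hp.free_adjoinRoot
  haveI := hp.finite_adjoinRoot
  haveI : Nontrivial (AdjoinRoot p) :=
    Ideal.Quotient.nontrivial_iff.2 fun h => by
      have h1 := hp.eq_one_of_isUnit (Ideal.span_singleton_eq_top.1 h)
      rw [h1, Polynomial.natDegree_one] at hdeg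
      exact absurd hdeg (lt_irrefl 0)
  obtain ⟨σ⟩ := h (AdjoinRoot p)
  exact ⟨σ (AdjoinRoot.root p), by
    rw [← Polynomial.coe_aeval_eq_eval, Polynomial.aeval_algHom_apply, AdjoinRoot.aeval_eq, AdjoinRoot.mk_self, map_zero]⟩

theorem surjective_of_range_mem {R : CommRingCat.{u}} [IsLocalRing R] {Y : Scheme.{u}} (f : Y ⟶ Spec R) [Flat f]
    [LocallyOfFinitePresentation f] (h : IsLocalRing.closedPoint R ∈ Set.range f.base) : Surjective f :=
  ⟨fun x => (IsLocalRing.specializes_closedPoint x).mem_open f.isOpenMap.isOpen_range h⟩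

/-- Lifting along fppf morphisms for henselian affine local schemes with enough retractions. -/
theorem exists_lift_fppf {A : CommRingCat.{u}} [HenselianLocalRing A]
    (hret : ∀ (C : Type u) [CommRing C] [Algebra A C] [Module.Free A C] [Module.Finite A C] [Nontrivial C],
      Nonempty (C →ₐ[A] A))
    {X Y : Scheme.{u}} (w : Y ⟶ X) [Flat w] [LocallyOfFinitePresentation w] (g : Spec A ⟶ X) (y : Y)
    (hy : w.base y = g.base (IsLocalRing.closedPoint A)) : ∃ l : Spec A ⟶ Y, l ≫ w = g := by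
  obtain ⟨z, hz, -⟩ := Scheme.Pullback.exists_preimage_pullback (f := g) (g := w) (IsLocalRing.closedPoint A) y hy.symm
  obtain ⟨U₀, hU₀, hzU, -⟩ := exists_isAffineOpen_mem_and_subset (U := (⊤ : (pullback g w).Opens)) (x := z) trivial
  obtain ⟨φ, hφ⟩ := Spec.map_surjective (hU₀.fromSpec ≫ pullback.fst g w)
  haveI : Flat (Spec.map φ) := by rw [hφ]; infer_instance
  haveI : LocallyOfFinitePresentation (Spec.map φ) := by rw [hφ]; infer_instance
  haveI : Surjective (Spec.map φ) := surjective_of_range_mem _ (by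
    obtain ⟨q, hq⟩ : z ∈ Set.range hU₀.fromSpec.base := by rw [hU₀.range_fromSpec]; exact hzU
    exact ⟨q, by rw [hφ, Scheme.Hom.comp_apply, hq, hz]⟩)
  obtain ⟨T, gT, hT, hTg, hflat, hlfp, hqf, hsurj, hTa⟩ := S2735.result (Spec.map φ)
  haveI : IsAffine T := hTa inferInstance
  obtain ⟨ψ, hψ⟩ := Spec.map_surjective (T.isoSpec.inv ≫ gT)
  obtain ⟨ρ, hρ⟩ := Spec.map_surjective (T.isoSpec.inv ≫ hT)
  have hρφ : φ ≫ ρ = ψ := Spec.map_injective (by rw [Spec.map_comp, hρ, hψ, Category.assoc, hTg])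
  letI : Algebra A Γ(T, ⊤) := ψ.hom.toAlgebra
  haveI : Algebra.FinitePresentation A Γ(T, ⊤) :=
    ((HasRingHomProperty.Spec_iff (P := @LocallyOfFinitePresentation) (φ := ψ))).1 (by rw [hψ]; infer_instance)
  haveI : Module.Flat A Γ(T, ⊤) :=
    (HasRingHomProperty.Spec_iff (P := @Flat) (φ := ψ)).1 (by rw [hψ]; infer_instance)
  haveI : Algebra.QuasiFinite A Γ(T, ⊤) :=
    (HasRingHomProperty.Spec_iff (P := @LocallyQuasiFinite) (φ := ψ)).1 (by rw [hψ]; infer_instance)
  obtain ⟨t, ht⟩ := hsurj.surj (IsLocalRing.closedPoint A)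
  have hq : (Spec.map ψ).base (T.isoSpec.hom.base t) = IsLocalRing.closedPoint A := by
    rw [← Scheme.Hom.comp_apply, hψ, Iso.hom_inv_id_assoc, ht]
  obtain ⟨C₀, _, _, _, _, _, ⟨π⟩⟩ := exists_finite_free_quotient (R := A) Γ(T, ⊤) (T.isoSpec.hom.base t)
    ⟨(congrArg PrimeSpectrum.asIdeal hq).symm⟩
  obtain ⟨σ⟩ := hret C₀
  let τ : Γ(pullback g w, U₀) ⟶ A := ρ ≫ CommRingCat.ofHom (σ.comp π).toRingHom
  have hτ : φ ≫ τ = 𝟙 A := by
    rw [← Category.assoc, hρφ]
    exact CommRingCat.hom_ext (RingHom.ext fun a => (σ.comp π).commutes a)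
  refine ⟨Spec.map τ ≫ hU₀.fromSpec ≫ pullback.snd g w, ?_⟩
  rw [Category.assoc, Category.assoc, ← pullback.condition, ← Category.assoc (f := hU₀.fromSpec), ← hφ,
    ← Category.assoc, ← Spec.map_comp, hτ, Spec.map_id, Category.id_comp]

end Groth.Agent.ModPairLib

namespace Groth.Agent.ModPairLib

theorem exists_member {P : MorphismProperty Scheme.{u}} {X : Scheme.{u}} {R : Presieve X}
    (hR : R ∈ Scheme.precoverage P X) (x : X) :
    ∃ (Y : Scheme.{u}) (w : Y ⟶ X), R w ∧ P w ∧ ∃ y, w.base y = x := by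
  obtain ⟨Y', w', hw', y, hy⟩ := hR.1 x
  cases hw' with
  | @of Y w hw => exact ⟨Y, w, hw, hR.2 hw, y, hy⟩

/-- The interior of an fppf local pair is fppf local. -/
theorem interior_fppfLocal (P : ModPair.Pair.{u}) [IsAffine P.total] [IsLocalRing Γ(P.total, ⊤)]
    [QuasiSeparatedSpace P.total] (hT : SchFppfLocal P.total)
    [IsAffine (ModPair.interior P.mod : Scheme.{u})] [IsLocalRing Γ((ModPair.interior P.mod : Scheme.{u}), ⊤)]
    (hval : ∀ p : (ModPair.interior P.mod : Scheme.{u}),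
        IsClosed ({p} : Set (ModPair.interior P.mod : Scheme.{u})) →
          ValuationRing (Γ(P.total, ⊤) ⧸
            (P.total.toSpecΓ.base ((ModPair.interior P.mod).ι.base p)).asIdeal) ∧
          Set.BijOn (algebraMap Γ(P.total, ⊤) (Localization.AtPrime
              (P.total.toSpecΓ.base ((ModPair.interior P.mod).ι.base p)).asIdeal))
            ((P.total.toSpecΓ.base ((ModPair.interior P.mod).ι.base p)).asIdeal : Set Γ(P.total, ⊤))
            (IsLocalRing.maximalIdeal (Localization.AtPrime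
              (P.total.toSpecΓ.base ((ModPair.interior P.mod).ι.base p)).asIdeal) :
              Set (Localization.AtPrime
                (P.total.toSpecΓ.base ((ModPair.interior P.mod).ι.base p)).asIdeal))) :
    SchFppfLocal (ModPair.interior P.mod : Scheme.{u}) := by
  have hret := fun D [CommRing D] [Algebra Γ(P.total, ⊤) D] [Module.Free Γ(P.total, ⊤) D]
    [Module.Finite Γ(P.total, ⊤) D] [Nontrivial D] => retraction_of_schFppfLocal hT D
  haveI : HenselianLocalRing Γ(P.total, ⊤) := henselianLocalRing_of_isAIC (isAIC_of_retraction hret)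
  obtain ⟨f, hf0, -, hU⟩ := exists_gen P
  let U : Scheme.{u} := (ModPair.interior P.mod : Scheme.{u})
  haveI := (isAffineOpen_top P.total).isLocalization_basicOpen f
  let e : Γ(P.total, P.total.basicOpen f) ≃+* Γ(U, ⊤) :=
    (P.total.presheaf.mapIso (eqToIso hU).op ≪≫ (ModPair.interior P.mod).topIso.symm).commRingCatIsoToRingEquiv
  letI : Algebra Γ(P.total, ⊤) Γ(U, ⊤) :=
    (e.toRingHom.comp (algebraMap Γ(P.total, ⊤) Γ(P.total, P.total.basicOpen f))).toAlgebra
  haveI : IsLocalization.Away f Γ(U, ⊤) :=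
    IsLocalization.isLocalization_of_algEquiv (Submonoid.powers f) { e with commutes' := fun _ => rfl }
  have hinj : Function.Injective (algebraMap Γ(P.total, ⊤) Γ(U, ⊤)) :=
    IsLocalization.injective _ (Submonoid.powers_le.2 hf0)
  haveI : HenselianLocalRing Γ(U, ⊤) := by
    obtain ⟨c, hc⟩ := exists_closed_center (ModPair.interior P.mod : Scheme.{u})
    obtain ⟨hv, hb⟩ := hval c (isClosed_singleton_of_center hc)
    refine henselianLocalRing_away f hf0
      (P.total.toSpecΓ.base ((ModPair.interior P.mod).ι.base c)).asIdeal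
      (fun hfq => (mem_toSpecΓ _ _).1 hfq (hU.le c.2)) hb fun y hy => ?_
    have hy' : (ModPair.interior P.mod).ι.base c ∈ P.total.basicOpen y :=
      not_not.1 fun h => hy ((mem_toSpecΓ _ _).2 h)
    show IsUnit (e (algebraMap Γ(P.total, ⊤) Γ(P.total, P.total.basicOpen f) y))
    refine IsUnit.map e (isUnit_of_basicOpen_eq ((Scheme.basicOpen_res _ _ _).trans (inf_eq_left.2 fun z hz => ?_)))
    exact (hc ((ModPair.interior P.mod).ι ⁻¹ᵁ P.total.basicOpen y) hy').ge
      (x := (⟨z, hU.ge hz⟩ : (ModPair.interior P.mod : Scheme.{u}))) (Set.mem_univ _)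
  intro X R hR g
  obtain ⟨Y, w, hw, hPw, y, hy⟩ := exists_member hR (g.base (U.isoSpec.inv.base (IsLocalRing.closedPoint Γ(U, ⊤))))
  haveI := hPw.1.1.1
  haveI := hPw.1.1.2
  obtain ⟨l, hl⟩ := exists_lift_fppf (A := Γ(U, ⊤)) (fun C _ _ _ _ _ => exists_retraction_away f hinj hret C) w
    (U.isoSpec.inv ≫ g) y (hy.trans (Scheme.Hom.comp_apply _ _ _).symm)
  exact ⟨Y, w, U.isoSpec.hom ≫ l, hw, by rw [Category.assoc, hl, Iso.hom_inv_id_assoc]⟩

/-- An fppf local pair has fppf local total space. -/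
theorem total_fppfLocal (P : ModPair.Pair.{u})
    (hE : ∀ (X : ModPair.Pair.{u}) (ι : Type u) (U : ι → ModPair.Pair.{u}) (v : ∀ i, U i ⟶ X),
        (∀ i, ModPair.IsMinimal (U i).mod X.mod (v i).hom ∧ Flat (v i).hom ∧
          LocallyOfFinitePresentation (v i).hom ∧ QuasiCompact (v i).hom ∧
          QuasiSeparated (v i).hom) →
        (∀ x : X.total, ∃ (i : ι) (y : (U i).total), (v i).hom.base y = x) →
        ∀ g : P ⟶ X, ∃ (i : ι) (h : P ⟶ U i), h ≫ v i = g) : SchFppfLocal P.total := by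
  intro X R hR g
  choose Y w hw hPw y hy using fun x : P.total => exists_member hR (g.base x)
  haveI := fun x => (hPw x).1.1.1
  haveI := fun x => (hPw x).1.1.2
  haveI := fun x => (hPw x).1.2
  haveI := fun x => (hPw x).2
  let V : P.total → ModPair.Pair.{u} := fun x => ⟨pullback g (w x), P.mod.comap (pullback.fst g (w x)),
    isEffCartier_comap_flat P.isEffCartier _⟩
  obtain ⟨x, h, hh⟩ := hE P P.total V (fun x => ⟨pullback.fst g (w x), le_rfl⟩)
    (fun x => ⟨rfl, inferInstanceAs (Flat (pullback.fst g (w x))),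
      inferInstanceAs (LocallyOfFinitePresentation (pullback.fst g (w x))),
      inferInstanceAs (QuasiCompact (pullback.fst g (w x))),
      inferInstanceAs (QuasiSeparated (pullback.fst g (w x)))⟩)
    (fun x => by
      obtain ⟨z, hz, -⟩ := Scheme.Pullback.exists_preimage_pullback (f := g) (g := w x) x (y x) (hy x).symm
      exact ⟨x, z, hz⟩) (𝟙 P)
  refine ⟨Y x, w x, h.hom ≫ pullback.snd g (w x), hw x, ?_⟩
  have e : h.hom ≫ pullback.fst g (w x) = 𝟙 P.total := congrArg ModPair.Pair.Hom.hom hh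
  rw [Category.assoc, ← pullback.condition, ← Category.assoc, e, Category.id_comp]

end Groth.Agent.ModPairLib
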