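import Mathlib.RingTheory.Henselian
import Mathlib.RingTheory.LocalRing.Module
import Mathlib.RingTheory.Flat.Basic
import Mathlib.RingTheory.Localization.Away.Basic
import Mathlib.LinearAlgebra.Dimension.OrzechProperty
import Mathlib.RingTheory.Spectrum.Prime.RingHom
import Groth.Prelude.Def_Curves
import Groth.Agent.Hensel.Split

/-!
Finite free algebras over localisations, for fppf locality of modulus pairs.
-/

set_option autoImplicit false

namespace Groth.Agent.ModPairLib

open Polynomial

universe u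

theorem exists_root_near_of_isAIC {A : Type u} [CommRing A] [IsLocalRing A] (h : Curves.IsAIC A) (a₀ : A) :
    ∀ (n : ℕ) (p : A[X]), p.natDegree = n → p.Monic → p.eval a₀ ∈ IsLocalRing.maximalIdeal A →
      IsUnit (p.derivative.eval a₀) → ∃ a, p.IsRoot a ∧ a - a₀ ∈ IsLocalRing.maximalIdeal A := by
  intro n
  induction n with
  | zero =>
    intro p hn hp h₁ _
    rw [hp.natDegree_eq_zero.1 hn, eval_one] at h₁
    exact ((IsLocalRing.maximalIdeal.isMaximal A).ne_top (Ideal.eq_top_of_isUnit_mem _ h₁ isUnit_one)).elim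
  | succ n ih =>
    intro p hn hp h₁ h₂
    obtain ⟨r, hr⟩ := h p hp (by omega)
    by_cases hm : r - a₀ ∈ IsLocalRing.maximalIdeal A
    · exact ⟨r, hr, hm⟩
    obtain ⟨q, rfl⟩ := dvd_iff_isRoot.2 hr
    have hu : IsUnit (a₀ - r) := by
      rw [← IsUnit.neg_iff, neg_sub]
      exact IsLocalRing.notMem_maximalIdeal.1 hm
    have hqm : q.Monic := (monic_X_sub_C r).of_mul_monic_left hp
    have hq1 : q.eval a₀ ∈ IsLocalRing.maximalIdeal A := by
      rw [eval_mul, eval_sub, eval_X, eval_C] at h₁
      exact (Ideal.unit_mul_mem_iff_mem _ hu).1 h₁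
    have hq2 : IsUnit (q.derivative.eval a₀) := by
      rw [derivative_mul, derivative_X_sub_C, one_mul, eval_add, eval_mul, eval_sub, eval_X, eval_C] at h₂
      refine IsLocalRing.notMem_maximalIdeal.1 fun hc => IsLocalRing.notMem_maximalIdeal.2 h₂ ?_
      exact Ideal.add_mem _ hq1 (Ideal.mul_mem_left _ _ hc)
    have hdeg : q.natDegree = n := by
      rw [(monic_X_sub_C r).natDegree_mul hqm, natDegree_X_sub_C] at hn
      omega
    obtain ⟨a, ha, ha'⟩ := ih q hdeg hqm hq1 hq2
    exact ⟨a, by rw [IsRoot.def, eval_mul, ha.eq_zero, mul_zero], ha'⟩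

theorem henselianLocalRing_of_isAIC {A : Type u} [CommRing A] [IsLocalRing A] (h : Curves.IsAIC A) :
    HenselianLocalRing A where
  is_henselian p hp a₀ h₁ h₂ := exists_root_near_of_isAIC h a₀ _ p rfl hp h₁ h₂

theorem exists_basis_with_one {R C : Type u} [CommRing R] [IsLocalRing R] [CommRing C] [Algebra R C]
    [Module.Free R C] [Module.Finite R C] [Nontrivial C] :
    ∃ (ι : Type u) (_ : Fintype ι) (i : ι) (b : Module.Basis ι R C), b i = 1 := by
  classical
  let b₀ := Module.Free.chooseBasis R C
  have hne : ∃ i, IsUnit (b₀.repr 1 i) := by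
    by_contra hcon
    push Not at hcon
    have htop : (⊤ : Submodule R C) ≤ IsLocalRing.maximalIdeal R • (⊤ : Submodule R C) := by
      intro x _
      have h1 : (1 : C) ∈ IsLocalRing.maximalIdeal R • (⊤ : Submodule R C) := by
        rw [← b₀.sum_repr (1 : C)]
        exact Submodule.sum_mem _ fun j _ => Submodule.smul_mem_smul (hcon j) Submodule.mem_top
      rw [← mul_one x]
      refine Submodule.smul_induction_on h1 (fun r hr y _ => ?_) (fun y z hy hz => ?_)
      · rw [mul_smul_comm]; exact Submodule.smul_mem_smul hr Submodule.mem_top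
      · rw [mul_add]; exact Submodule.add_mem _ hy hz
    have := Submodule.eq_bot_of_le_smul_of_le_jacobson_bot _ _ Module.Finite.fg_top htop
      (IsLocalRing.maximalIdeal_le_jacobson _)
    have h01 : (1 : C) ∈ (⊥ : Submodule R C) := this ▸ Submodule.mem_top
    exact one_ne_zero ((Submodule.mem_bot R).1 h01)
  obtain ⟨i, hi⟩ := hne
  let v := Function.update (⇑b₀) i (1 : C)
  have hv : ⊤ ≤ Submodule.span R (Set.range v) := by
    rw [← b₀.span_eq, Submodule.span_le]
    rintro _ ⟨j, rfl⟩
    have hj : ∀ j, j ≠ i → b₀ j ∈ Submodule.span R (Set.range v) := fun j hj =>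
      Submodule.subset_span ⟨j, by simp [v, hj]⟩
    by_cases h : j = i
    · subst h
      have hs : b₀.repr 1 j • b₀ j = 1 - ∑ k ∈ Finset.univ.erase j, b₀.repr 1 k • b₀ k := by
        rw [eq_sub_iff_add_eq]
        exact (Finset.add_sum_erase Finset.univ (fun k => b₀.repr 1 k • b₀ k) (Finset.mem_univ j)).trans (b₀.sum_repr 1)
      refine (Submodule.smul_mem_iff_of_isUnit _ hi).1 ?_
      rw [hs]
      refine Submodule.sub_mem _ (Submodule.subset_span ⟨j, by simp [v]⟩)
        (Submodule.sum_mem _ fun k hk => Submodule.smul_mem _ _ (hj k (Finset.ne_of_mem_erase hk)))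
    · exact hj j h
  refine ⟨_, inferInstance, i, basisOfTopLeSpanOfCardEqFinrank v hv
    (Module.finrank_eq_card_basis b₀).symm, ?_⟩
  simp [v]

/-- Retractions of finite free algebras over `A` extend to the finite free algebras over `A[1/f]`. -/
theorem exists_retraction_away {A A' : Type u} [CommRing A] [CommRing A'] [IsLocalRing A'] [Algebra A A']
    (f : A) [IsLocalization.Away f A'] (hinj : Function.Injective (algebraMap A A'))
    (hA : ∀ (D : Type u) [CommRing D] [Algebra A D] [Module.Free A D] [Module.Finite A D] [Nontrivial D],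
      Nonempty (D →ₐ[A] A))
    (C : Type u) [CommRing C] [Algebra A' C] [Module.Free A' C] [Module.Finite A' C] [Nontrivial C] :
    Nonempty (C →ₐ[A'] A') := by
  classical
  obtain ⟨ι, _, i, b, hb⟩ := exists_basis_with_one (R := A') (C := C)
  letI : Algebra A C := ((algebraMap A' C).comp (algebraMap A A')).toAlgebra
  haveI : IsScalarTower A A' C := IsScalarTower.of_algebraMap_eq fun _ => rfl
  set F : A' := algebraMap A A' f
  have hF : IsUnit F := IsLocalization.Away.algebraMap_isUnit f
  have hbound : ∀ c : A', ∃ n, ∀ m, n ≤ m → F ^ m * c ∈ (algebraMap A A').range := fun c => by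
    obtain ⟨n, a, ha⟩ := IsLocalization.Away.surj f c
    refine ⟨n, fun m hm => ⟨f ^ (m - n) * a, ?_⟩⟩
    rw [map_mul, map_pow, ← ha, mul_comm c, ← mul_assoc, ← pow_add, Nat.sub_add_cancel hm]
  choose n hn using hbound
  let N : ℕ := Finset.univ.sup fun jkl : ι × ι × ι => n (b.repr (b jkl.1 * b jkl.2.1) jkl.2.2)
  have hN : ∀ j k l, F ^ N * b.repr (b j * b k) l ∈ (algebraMap A A').range := fun j k l =>
    hn _ _ (Finset.le_sup (f := fun jkl : ι × ι × ι => n (b.repr (b jkl.1 * b jkl.2.1) jkl.2.2))
      (Finset.mem_univ (j, k, l)))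
  let s : ι → A'ˣ := fun j => if j = i then 1 else (hF.pow N).unit
  let w := b.unitsSMul s
  have hwi : w i = 1 := by simp [w, s, Module.Basis.unitsSMul_apply, hb]
  have hwj : ∀ j, j ≠ i → w j = F ^ N • b j := fun j hj => by
    rw [Module.Basis.unitsSMul_apply]; simp [s, hj, Units.smul_def]
  let L : Submodule A C := Submodule.span A (Set.range w)
  have h1L : (1 : C) ∈ L := Submodule.subset_span ⟨i, hwi⟩
  have hmem : ∀ (c : A') (l : ι), c ∈ (algebraMap A A').range → c • w l ∈ L := by
    rintro _ l ⟨a, rfl⟩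
    rw [algebraMap_smul]
    exact L.smul_mem _ (Submodule.subset_span ⟨l, rfl⟩)
  have hww : ∀ j k, w j * w k ∈ L := fun j k => by
    by_cases hj : j = i
    · rw [hj, hwi, one_mul]; exact Submodule.subset_span ⟨k, rfl⟩
    by_cases hk : k = i
    · rw [hk, hwi, mul_one]; exact Submodule.subset_span ⟨j, rfl⟩
    rw [hwj j hj, hwj k hk, smul_mul_smul_comm, ← b.sum_repr (b j * b k), Finset.smul_sum]
    refine L.sum_mem fun l _ => ?_
    rw [smul_smul]
    by_cases hl : l = i
    · rw [hl, hb, ← hwi, mul_assoc]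
      exact hmem _ _ (Subring.mul_mem _ ⟨f ^ N, map_pow _ _ _⟩ (hN j k i))
    · rw [mul_assoc, mul_comm (F ^ N) (b.repr (b j * b k) l), ← mul_assoc, ← smul_smul _ (F ^ N), ← hwj l hl]
      exact hmem _ _ (hN j k l)
  have hmul : ∀ x y, x ∈ L → y ∈ L → x * y ∈ L := fun x y hx hy => by
    refine Submodule.span_induction (p := fun x _ => x * y ∈ L) ?_ (by simp) ?_ ?_ hx
    · rintro _ ⟨j, rfl⟩
      refine Submodule.span_induction (p := fun y _ => w j * y ∈ L) ?_ (by simp) ?_ ?_ hy
      · rintro _ ⟨k, rfl⟩; exact hww j k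
      · intro y z _ _ hy hz; rw [mul_add]; exact L.add_mem hy hz
      · intro a y _ hy; rw [mul_smul_comm]; exact L.smul_mem a hy
    · intro x z _ _ hx hz; rw [add_mul]; exact L.add_mem hx hz
    · intro a x _ hx; rw [smul_mul_assoc]; exact L.smul_mem a hx
  let D : Subalgebra A C := L.toSubalgebra h1L hmul
  have hli : LinearIndependent A w := by
    refine w.linearIndependent.restrict_scalars ?_
    intro a a' e
    exact hinj (by simpa [Algebra.smul_def] using e)
  let bD : Module.Basis ι A D := Module.Basis.span hli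
  have hbD : ∀ j, ((bD j : D) : C) = w j := fun j => Module.Basis.coe_span_apply hli j
  haveI : Module.Free A D := Module.Free.of_basis bD
  haveI : Module.Finite A D := Module.Finite.of_basis bD
  obtain ⟨σ⟩ := hA D
  let τ : C →ₗ[A'] A' := w.constr A' fun j => algebraMap A A' (σ (bD j))
  have hτ : ∀ d : D, τ d = algebraMap A A' (σ d) := by
    have : (τ.restrictScalars A).comp D.val.toLinearMap = (Algebra.linearMap A A').comp σ.toLinearMap :=
      bD.ext fun j => by
        show τ ((bD j : D) : C) = algebraMap A A' (σ (bD j))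
        rw [hbD, Module.Basis.constr_basis]
    exact fun d => LinearMap.congr_fun this d
  refine ⟨AlgHom.ofLinearMap τ ?_ ((LinearMap.map_mul_iff τ).2 (w.ext fun j => w.ext fun k => ?_))⟩
  · have := hτ 1
    rwa [map_one σ, map_one] at this
  · simp only [LinearMap.compr₂_apply, LinearMap.mul_apply', LinearMap.compl₂_apply,
      LinearMap.comp_apply]
    rw [← hbD j, ← hbD k, ← Subalgebra.coe_mul, hτ, hτ, hτ, map_mul σ, map_mul]

/-- A flat quasi-finite algebra with a point over the closed point of a henselian local ring has a finite free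
nonzero quotient. -/
theorem exists_finite_free_quotient {R : Type u} [CommRing R] [HenselianLocalRing R] (C : Type u) [CommRing C]
    [Algebra R C] [Algebra.FiniteType R C] [Algebra.QuasiFinite R C] [Module.Flat R C]
    (q : PrimeSpectrum C) (hq : q.asIdeal.LiesOver (IsLocalRing.maximalIdeal R)) :
    ∃ (C₀ : Type u) (_ : CommRing C₀) (_ : Algebra R C₀), Module.Free R C₀ ∧ Module.Finite R C₀ ∧
      Nontrivial C₀ ∧ Nonempty (C →ₐ[R] C₀) := by
  haveI := q.isPrime
  obtain ⟨e, he, hfin, hmem, -⟩ := Hensel.exists_idem_split (R := R) (S := C)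
  have heq : e ∉ q.asIdeal := hmem q hq inferInstance
  let J : Ideal C := Ideal.span {1 - e}
  have hJ : J ≤ q.asIdeal := (Ideal.span_singleton_le_iff_mem _).2
    ((q.isPrime.mem_or_mem (x := e) (y := 1 - e) (by
      rw [mul_sub, mul_one, he.eq, sub_self]; exact q.asIdeal.zero_mem)).resolve_left heq)
  haveI : Nontrivial (C ⧸ J) := Ideal.Quotient.nontrivial_iff.2 fun h => q.isPrime.ne_top (top_le_iff.1 (h ▸ hJ))
  haveI : Module.Finite R (C ⧸ J) := hfin
  haveI : Module.Flat R (C ⧸ J) := by
    let sec : C ⧸ J →ₗ[R] C := (Submodule.liftQ J (LinearMap.mulLeft C e) fun x hx => by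
        obtain ⟨y, rfl⟩ := Ideal.mem_span_singleton'.1 hx
        show e * (y * (1 - e)) = 0
        rw [mul_left_comm, mul_sub, mul_one, he.eq, sub_self, mul_zero]).restrictScalars R
    refine Module.Flat.of_retract sec (Ideal.Quotient.mkₐ R J).toLinearMap ?_
    refine LinearMap.ext fun x => ?_
    obtain ⟨x, rfl⟩ := Ideal.Quotient.mk_surjective x
    show Ideal.Quotient.mk J (e * x) = Ideal.Quotient.mk J x
    rw [Ideal.Quotient.eq, show e * x - x = -x * (1 - e) by ring]
    exact Ideal.mul_mem_left _ _ (Ideal.mem_span_singleton_self _)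
  haveI : Module.Free R (C ⧸ J) := Module.free_of_flat_of_isLocalRing
  exact ⟨C ⧸ J, inferInstance, inferInstance, inferInstance, hfin, inferInstance, ⟨Ideal.Quotient.mkₐ R J⟩⟩

end Groth.Agent.ModPairLib
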