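import Groth.Agent.ModPairLib.Charts
import Groth.Agent.ModPairLib.Closure
import Groth.Agent.S1682

/-!
The ambient product: interior, effective Cartier pull backs, universal property.
-/

set_option autoImplicit false
universe u

open CategoryTheory Limits AlgebraicGeometry

namespace Groth.Agent.ModPairLib

variable {X Y Z S T W : Scheme.{u}}

theorem isAffineHom_inf (A B : X.Opens) [IsAffineHom A.ι] [IsAffineHom B.ι] : IsAffineHom (A ⊓ B).ι := by
  have hpb : IsPullback (X.homOfLE (inf_le_left : A ⊓ B ≤ A)) (X.homOfLE (inf_le_right : A ⊓ B ≤ B)) A.ι B.ι := by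
    refine IsOpenImmersion.isPullback _ _ _ _ (by simp) ?_
    rw [Scheme.Opens.opensRange_ι, Scheme.opensRange_homOfLE]
    ext x
    exact ⟨fun h => ⟨h, x.2⟩, And.left⟩
  haveI : IsAffineHom (X.homOfLE (inf_le_left : A ⊓ B ≤ A)) := MorphismProperty.of_isPullback hpb.flip inferInstance
  rw [← X.homOfLE_ι (inf_le_left : A ⊓ B ≤ A)]
  infer_instance

theorem isAffineHom_preimage_opens (f : X ⟶ Y) (U : Y.Opens) [IsAffineHom U.ι] : IsAffineHom (f ⁻¹ᵁ U).ι :=
  MorphismProperty.of_isPullback (isPullback_morphismRestrict f U) inferInstance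

/-- A schematically dense open is schematically dense in every open containing it. -/
theorem std_homOfLE {U Ω : X.Opens} (h : U ≤ Ω) [IsAffineHom U.ι] [IsSchemeTheoreticallyDominant U.ι] :
    IsSchemeTheoreticallyDominant (X.homOfLE h) := by
  refine IsSchemeTheoreticallyDominant.of_isPullback (f := U.ι) (g := Ω.ι) (pX := 𝟙 _) ?_
  refine IsOpenImmersion.isPullback _ _ _ _ (by simp) ?_
  rw [Scheme.Opens.opensRange_ι, Scheme.opensRange_homOfLE]

/-- An open, dense in the base and outside the centre, is dense in the blowing up. -/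
theorem std_preimage_blowUp {C : Y.IdealSheafData} {b : X ⟶ Y} (hb : BlowUp.IsBlowUp b C) {U : Y.Opens}
    (hU : U ≤ ModPair.interior C) [IsAffineHom U.ι] [IsSchemeTheoreticallyDominant U.ι] :
    IsSchemeTheoreticallyDominant (b ⁻¹ᵁ U).ι := by
  haveI : IsIso (b ∣_ ModPair.interior C) := S1682.result C b hb
  haveI : IsSchemeTheoreticallyDominant (b ⁻¹ᵁ ModPair.interior C).ι := by
    rw [← interior_comap]; exact std_interior hb.1
  haveI := std_homOfLE hU
  haveI := isAffineHom_preimage_opens b U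
  haveI : IsAffineHom (Y.homOfLE hU) := by
    haveI : IsAffineHom (Y.homOfLE hU ≫ (ModPair.interior C).ι) := by rw [Y.homOfLE_ι]; infer_instance
    exact IsAffineHom.of_comp _ (ModPair.interior C).ι
  have hle : b ⁻¹ᵁ U ≤ b ⁻¹ᵁ ModPair.interior C := b.preimage_mono hU
  haveI : IsSchemeTheoreticallyDominant (X.homOfLE hle) := by
    refine IsSchemeTheoreticallyDominant.of_isPullback (f := Y.homOfLE hU) (g := b ∣_ ModPair.interior C)
      (pX := b ∣_ U) ?_
    exact IsPullback.of_bot (v₁₂ := Y.homOfLE hU) (v₂₂ := (ModPair.interior C).ι)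
      (v₁₁ := X.homOfLE hle) (v₂₁ := (b ⁻¹ᵁ ModPair.interior C).ι)
      (by rw [X.homOfLE_ι, Y.homOfLE_ι]; exact isPullback_morphismRestrict b U)
      (by rw [← cancel_mono (ModPair.interior C).ι]; simp)
      (isPullback_morphismRestrict b (ModPair.interior C))
  rw [← X.homOfLE_ι hle]
  infer_instance

section mprod

variable (f : X ⟶ S) (g : T ⟶ S) (I : X.IdealSheafData) (J : T.IdealSheafData)

/-- The product of the interiors inside the schematic closure. -/
noncomputable abbrev mU : (ModPair.mprod f g I J).Opens :=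
  ModPair.mprodι f g I J ⁻¹ᵁ ModPair.prodInterior f g I J

theorem mU_eq : mU f g I J = ModPair.interior (I.comap (ModPair.mprodι f g I J ≫ pullback.fst f g)) ⊓
    ModPair.interior (J.comap (ModPair.mprodι f g I J ≫ pullback.snd f g)) := by
  rw [interior_comap, interior_comap, Scheme.Hom.comp_preimage, Scheme.Hom.comp_preimage]
  rfl

variable {f g I J}
variable (hI : BlowUp.IsEffCartierIdeal I) (hJ : BlowUp.IsEffCartierIdeal J)

include hI hJ

theorem isAffineHom_prodInterior : IsAffineHom (ModPair.prodInterior f g I J).ι :=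
  haveI := isAffineHom_preimage hI (pullback.fst f g)
  haveI := isAffineHom_preimage hJ (pullback.snd f g)
  isAffineHom_inf _ _

theorem std_mU : IsSchemeTheoreticallyDominant (mU f g I J).ι :=
  haveI := isAffineHom_prodInterior (f := f) (g := g) hI hJ
  std_preimage_image _

theorem isAffineHom_mU : IsAffineHom (mU f g I J).ι :=
  haveI := isAffineHom_prodInterior (f := f) (g := g) hI hJ
  isAffineHom_preimage_opens _ _

theorem isEffCartier_mprod_fst : BlowUp.IsEffCartierIdeal (I.comap (ModPair.mprodι f g I J ≫ pullback.fst f g)) := by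
  haveI := std_mU (f := f) (g := g) hI hJ
  haveI := std_of_le (U := mU f g I J) (V := (ModPair.mprodι f g I J ≫ pullback.fst f g) ⁻¹ᵁ ModPair.interior I)
    ((mU_eq f g I J).le.trans (inf_le_left.trans (interior_comap _ _).le))
  exact isEffCartier_comap hI _

theorem isEffCartier_mprod_snd : BlowUp.IsEffCartierIdeal (J.comap (ModPair.mprodι f g I J ≫ pullback.snd f g)) := by
  haveI := std_mU (f := f) (g := g) hI hJ
  haveI := std_of_le (U := mU f g I J) (V := (ModPair.mprodι f g I J ≫ pullback.snd f g) ⁻¹ᵁ ModPair.interior J)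
    ((mU_eq f g I J).le.trans (inf_le_right.trans (interior_comap _ _).le))
  exact isEffCartier_comap hJ _

omit hI hJ in
/-- Factorisation through the schematic closure. -/
theorem exists_lift {IW : W.IdealSheafData} (hW : BlowUp.IsEffCartierIdeal IW) (b : W ⟶ X) (a : W ⟶ T)
    (hw : b ≫ f = a ≫ g) (hb : ModPair.interior IW ≤ b ⁻¹ᵁ ModPair.interior I)
    (ha : ModPair.interior IW ≤ a ⁻¹ᵁ ModPair.interior J) :
    ∃ c : W ⟶ ModPair.mprod f g I J, c ≫ ModPair.mprodι f g I J = pullback.lift b a hw := by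
  haveI := std_interior hW
  have hr : Set.range ((ModPair.interior IW).ι ≫ pullback.lift b a hw).base ⊆
      Set.range (ModPair.prodInterior f g I J).ι.base := by
    rintro _ ⟨x, rfl⟩
    rw [Scheme.Opens.range_ι]
    constructor
    · show ((ModPair.interior IW).ι ≫ pullback.lift b a hw ≫ pullback.fst f g).base x ∈ ModPair.interior I
      rw [pullback.lift_fst]
      exact hb x.2
    · show ((ModPair.interior IW).ι ≫ pullback.lift b a hw ≫ pullback.snd f g).base x ∈ ModPair.interior J
      rw [pullback.lift_snd]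
      exact ha x.2
  have hker : (ModPair.mprodι f g I J).ker ≤ (pullback.lift b a hw).ker := by
    rw [show ModPair.mprodι f g I J = (ModPair.prodInterior f g I J).ι.ker.subschemeι from rfl,
      Scheme.IdealSheafData.ker_subschemeι]
    refine (Scheme.Hom.le_ker_comp (IsOpenImmersion.lift _ _ hr) _).trans ?_
    rw [IsOpenImmersion.lift_fac, Scheme.Hom.ker_comp, Scheme.Hom.ker_eq_bot,
      Scheme.IdealSheafData.map_bot]
  exact ⟨_, IsClosedImmersion.lift_fac _ _ hker⟩

variable {Y' : Scheme.{u}} {π : Y' ⟶ ModPair.mprod f g I J}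

theorem std_blowUp_interior (hπ : BlowUp.IsBlowUp π (ModPair.prodCentre f g I J)) :
    IsSchemeTheoreticallyDominant (π ⁻¹ᵁ mU f g I J).ι := by
  haveI := std_mU (f := f) (g := g) hI hJ
  haveI := isAffineHom_mU (f := f) (g := g) hI hJ
  refine std_preimage_blowUp hπ ?_
  rw [mU_eq, ModPair.prodCentre, interior_sup]
  exact inf_le_left.trans le_sup_left

theorem isEffCartier_blowUp_fst (hπ : BlowUp.IsBlowUp π (ModPair.prodCentre f g I J)) :
    BlowUp.IsEffCartierIdeal ((I.comap (ModPair.mprodι f g I J ≫ pullback.fst f g)).comap π) := by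
  haveI := std_blowUp_interior hI hJ hπ
  haveI := std_of_le (U := π ⁻¹ᵁ mU f g I J)
    (V := π ⁻¹ᵁ ModPair.interior (I.comap (ModPair.mprodι f g I J ≫ pullback.fst f g)))
    (π.preimage_mono ((mU_eq f g I J).le.trans inf_le_left))
  exact isEffCartier_comap (isEffCartier_mprod_fst hI hJ) π

theorem isEffCartier_blowUp_snd (hπ : BlowUp.IsBlowUp π (ModPair.prodCentre f g I J)) :
    BlowUp.IsEffCartierIdeal ((J.comap (ModPair.mprodι f g I J ≫ pullback.snd f g)).comap π) := by
  haveI := std_blowUp_interior hI hJ hπ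
  haveI := std_of_le (U := π ⁻¹ᵁ mU f g I J)
    (V := π ⁻¹ᵁ ModPair.interior (J.comap (ModPair.mprodι f g I J ≫ pullback.snd f g)))
    (π.preimage_mono ((mU_eq f g I J).le.trans inf_le_right))
  exact isEffCartier_comap (isEffCartier_mprod_snd hI hJ) π

theorem ambProd_eq_inf {K : Y'.IdealSheafData} (h : ModPair.IsAmbProd f g I J π K) :
    K = (I.comap (ModPair.mprodι f g I J ≫ pullback.fst f g)).comap π ⊓
      (J.comap (ModPair.mprodι f g I J ≫ pullback.snd f g)).comap π :=
  eq_inf_of_mul (isEffCartier_blowUp_fst hI hJ h.1) (isEffCartier_blowUp_snd hI hJ h.1)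
    (by simpa [ModPair.prodCentre] using h.1.1) (by simpa [ModPair.prodCentre] using h.2)

theorem ambProd_spec {K : Y'.IdealSheafData} (h : ModPair.IsAmbProd f g I J π K) :
    BlowUp.IsEffCartierIdeal K ∧
      ModPair.IsAmbient K I (π ≫ ModPair.mprodι f g I J ≫ pullback.fst f g) ∧
      ModPair.IsAmbient K J (π ≫ ModPair.mprodι f g I J ≫ pullback.snd f g) ∧
      ModPair.interior K = (π ≫ ModPair.mprodι f g I J) ⁻¹ᵁ ModPair.prodInterior f g I J := by
  have hK := ambProd_eq_inf hI hJ h
  refine ⟨?_, ?_, ?_, ?_⟩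
  · rw [hK]
    exact isEffCartier_inf (isEffCartier_blowUp_fst hI hJ h.1) (isEffCartier_blowUp_snd hI hJ h.1)
      (by simpa [ModPair.prodCentre] using h.1.1)
  · rw [ModPair.IsAmbient, hK, Scheme.IdealSheafData.comap_comp _ π]
    exact inf_le_left
  · rw [ModPair.IsAmbient, hK, Scheme.IdealSheafData.comap_comp _ π]
    exact inf_le_right
  · rw [hK, interior_inf, interior_comap _ π, interior_comap _ π, Scheme.Hom.comp_preimage]
    exact (congrArg (π ⁻¹ᵁ ·) (mU_eq f g I J)).symm

/-- Universal property among pairs on which the pulled back centre is effective Cartier. -/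
theorem existsUnique_lift {K : Y'.IdealSheafData} (h : ModPair.IsAmbProd f g I J π K) {IW : W.IdealSheafData}
    (hW : BlowUp.IsEffCartierIdeal IW) (b : W ⟶ X) (a : W ⟶ T) (hw : b ≫ f = a ≫ g)
    (hb : ModPair.IsAmbient IW I b) (ha : ModPair.IsAmbient IW J a)
    (hC : BlowUp.IsEffCartierIdeal (I.comap b ⊔ J.comap a)) :
    ∃ c : W ⟶ Y', (c ≫ π ≫ ModPair.mprodι f g I J ≫ pullback.fst f g = b ∧
      c ≫ π ≫ ModPair.mprodι f g I J ≫ pullback.snd f g = a) ∧ ModPair.IsAmbient IW K c ∧
      K.comap c = I.comap b ⊓ J.comap a ∧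
      ∀ c' : W ⟶ Y', c' ≫ π ≫ ModPair.mprodι f g I J ≫ pullback.fst f g = b →
        c' ≫ π ≫ ModPair.mprodι f g I J ≫ pullback.snd f g = a → c' = c := by
  obtain ⟨l, hl⟩ := exists_lift (I := I) (J := J) hW b a hw (interior_le_of_ambient hb) (interior_le_of_ambient ha)
  have hl1 : l ≫ ModPair.mprodι f g I J ≫ pullback.fst f g = b := by
    rw [← Category.assoc, hl, pullback.lift_fst]
  have hl2 : l ≫ ModPair.mprodι f g I J ≫ pullback.snd f g = a := by
    rw [← Category.assoc, hl, pullback.lift_snd]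
  have hcl : (ModPair.prodCentre f g I J).comap l = I.comap b ⊔ J.comap a := by
    rw [ModPair.prodCentre, Scheme.IdealSheafData.comap_sup, ← Scheme.IdealSheafData.comap_comp,
      ← Scheme.IdealSheafData.comap_comp, hl1, hl2]
  obtain ⟨c, hc, huniq⟩ := h.1.2 W l (hcl.symm ▸ hC)
  have hKc : K.comap c = I.comap b ⊓ J.comap a := by
    refine eq_inf_of_mul (isEffCartier_comap_of_ambient hW hI hb) (isEffCartier_comap_of_ambient hW hJ ha) hC ?_
    have h2 := congrArg (fun L => Scheme.IdealSheafData.comap L c) h.2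
    simp only [comap_mul, ← Scheme.IdealSheafData.comap_comp, hc, reassoc_of% hc] at h2
    rwa [hcl, hl1, hl2] at h2
  have hc1 : c ≫ π ≫ ModPair.mprodι f g I J ≫ pullback.fst f g = b := by rw [reassoc_of% hc, hl1]
  have hc2 : c ≫ π ≫ ModPair.mprodι f g I J ≫ pullback.snd f g = a := by rw [reassoc_of% hc, hl2]
  refine ⟨c, ⟨hc1, hc2⟩, (le_inf hb ha).trans hKc.ge, hKc, fun c' h1 h2 => huniq c' ?_⟩
  show c' ≫ π = l
  rw [← cancel_mono (ModPair.mprodι f g I J), hl]
  exact pullback.hom_ext (by rw [pullback.lift_fst]; simpa using h1) (by rw [pullback.lift_snd]; simpa using h2)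

end mprod

end Groth.Agent.ModPairLib
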