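import Groth.Agent.BlowExist.Main
import Groth.Agent.ModPairLib.Prod
import Groth.Agent.ModPairLib.Image

/-!
Modulus pairs that are local for Zariski coverings and admissible blow-ups.
-/

set_option autoImplicit false
set_option maxHeartbeats 800000
universe u

open CategoryTheory CategoryTheory.Limits AlgebraicGeometry TopologicalSpace

namespace Groth.Agent.ModPairLib

theorem isUnit_of_basicOpen_eq {X : Scheme.{u}} {U : X.Opens} {a : Γ(X, U)} (h : X.basicOpen a = U) : IsUnit a :=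
  X.toRingedSpace.isUnit_of_isUnit_germ U a fun x hx => (X.mem_basicOpen a x hx).1 (h.ge hx)

/-- Locality for Zariski coverings by quasi-compact opens, on the scheme level. -/
def SelfZariskiLocal (P : Scheme.{u}) : Prop :=
  ∀ (κ : Type u) (W : κ → P.Opens), (∀ k, QuasiCompact (W k).ι) → (⨆ k, W k) = ⊤ → ∃ k, W k = ⊤

theorem quasiCompact_ι {P : Scheme.{u}} [QuasiSeparatedSpace P] (U : P.Opens) (hU : IsCompact (U : Set P)) :
    QuasiCompact U.ι := by
  refine quasiCompact_iff_forall_isAffineOpen.2 fun V hV => ?_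
  have h : IsCompact ((U : Set P) ∩ V) :=
    QuasiSeparatedSpace.inter_isCompact _ _ U.isOpen hU V.isOpen hV.isCompact
  rw [U.ι.isOpenEmbedding.isInducing.isCompact_iff]
  show IsCompact (U.ι '' (U.ι ⁻¹' (V : Set P)))
  rw [Set.image_preimage_eq_inter_range, Scheme.Opens.range_ι, Set.inter_comm]
  exact h

theorem affine_local_of_selfLocal {P : Scheme.{u}} [QuasiSeparatedSpace P] (h : SelfZariskiLocal P) :
    IsAffine P ∧ IsLocalRing Γ(P, ⊤) := by
  obtain ⟨V, hV⟩ := h P.affineOpens (fun V => V.1) (fun V => quasiCompact_ι V.1 V.2.isCompact)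
    (iSup_affineOpens_eq_top P)
  have hP : IsAffineOpen (⊤ : P.Opens) := hV ▸ V.2
  haveI : IsAffine P := haveI : IsAffine (⊤ : P.Opens) := hP; IsAffine.of_isIso P.topIso.inv
  refine ⟨inferInstance, ?_⟩
  have hnt : Nontrivial Γ(P, ⊤) := by
    by_contra hn
    rw [not_nontrivial_iff_subsingleton] at hn
    obtain ⟨k, -⟩ := h PEmpty (fun k => k.elim) (fun k => k.elim) (eq_top_iff.2 fun x _ => by
      exfalso
      have hx := (P.isoSpec.hom.base x : PrimeSpectrum Γ(P, ⊤))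
      exact hx.isPrime.ne_top (Subsingleton.elim _ _))
    exact k.elim
  refine IsLocalRing.of_nonunits_add fun a b ha hb hab => ?_
  obtain ⟨v, hv⟩ := hab
  obtain ⟨k, hk⟩ := h (ULift.{u} Bool) (fun k => if k.down then P.basicOpen a else P.basicOpen b)
    (fun k => quasiCompact_ι _ (by split_ifs <;> exact (hP.basicOpen _).isCompact)) (eq_top_iff.2 fun x _ => by
      have hx : x ∈ P.basicOpen (a + b) := by
        rw [← hv, Scheme.basicOpen_of_isUnit P v.isUnit]; trivial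
      rcases Scheme.basicOpen_add_le _ a b hx with h' | h'
      · exact Opens.mem_iSup.2 ⟨⟨true⟩, by simpa using h'⟩
      · exact Opens.mem_iSup.2 ⟨⟨false⟩, by simpa using h'⟩)
  rcases hk' : k.down with _ | _ <;> rw [hk'] at hk <;> simp only [Bool.false_eq_true, ↓reduceIte] at hk
  · exact hb (isUnit_of_basicOpen_eq hk)
  · exact ha (isUnit_of_basicOpen_eq hk)

theorem isClosed_singleton_of_center {U : Scheme.{u}} {c : U} (hc : ∀ V : U.Opens, c ∈ V → V = ⊤) :
    IsClosed ({c} : Set U) := by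
  refine closure_subset_iff_isClosed.1 fun x hx => ?_
  have h1 : c ⤳ x := specializes_iff_mem_closure.2 hx
  have h2 : x ⤳ c := specializes_iff_forall_open.2 fun s hs hcs => (hc ⟨s, hs⟩ hcs).ge (Set.mem_univ x)
  exact (h2.antisymm h1).eq

/-- A local affine scheme has a point all whose neighbourhoods are everything. -/
theorem exists_closed_center (P : Scheme.{u}) [IsAffine P] [IsLocalRing Γ(P, ⊤)] :
    ∃ c : P, ∀ V : P.Opens, c ∈ V → V = ⊤ := by
  refine ⟨P.isoSpec.inv.base (IsLocalRing.closedPoint Γ(P, ⊤)), fun V hc => eq_top_iff.2 fun x _ => ?_⟩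
  have h : x ⤳ P.isoSpec.inv.base (IsLocalRing.closedPoint Γ(P, ⊤)) := by
    have := (IsLocalRing.specializes_closedPoint (P.isoSpec.hom.base x)).map P.isoSpec.inv.continuous
    rwa [← Scheme.Hom.comp_apply, Iso.hom_inv_id] at this
  exact h.mem_open V.isOpen hc

/-- Lifting along a jointly surjective family of open immersions. -/
theorem exists_lift_of_center {P X : Scheme.{u}} {c : P} (hc : ∀ V : P.Opens, c ∈ V → V = ⊤) {ι : Type*}
    {U : ι → Scheme.{u}} (v : ∀ i, U i ⟶ X) (hv : ∀ i, IsOpenImmersion (v i))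
    (hs : ∀ x : X, ∃ (i : ι) (y : U i), (v i).base y = x) (g : P ⟶ X) :
    ∃ (i : ι) (h : P ⟶ U i), h ≫ v i = g := by
  obtain ⟨i, y, hy⟩ := hs (g.base c)
  haveI := hv i
  have htop := hc (g ⁻¹ᵁ (v i).opensRange) ⟨y, hy⟩
  refine ⟨i, IsOpenImmersion.lift (v i) g ?_, IsOpenImmersion.lift_fac _ _ _⟩
  rintro _ ⟨x, rfl⟩
  exact htop.ge (trivial : x ∈ (⊤ : P.Opens))

/-- The Zariski locality condition of a pair implies that the total space is affine and local. -/
theorem affine_local_pair (P : ModPair.Pair.{u}) [QuasiSeparatedSpace P.total]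
    (hZ : ∀ (X : ModPair.Pair.{u}) (ι : Type u) (U : ι → ModPair.Pair.{u}) (v : ∀ i, U i ⟶ X),
        (∀ i, ModPair.IsMinimal (U i).mod X.mod (v i).hom ∧ IsOpenImmersion (v i).hom ∧
          QuasiCompact (v i).hom) →
        (∀ x : X.total, ∃ (i : ι) (y : (U i).total), (v i).hom.base y = x) →
        ∀ g : P ⟶ X, ∃ (i : ι) (h : P ⟶ U i), h ≫ v i = g) :
    IsAffine P.total ∧ IsLocalRing Γ(P.total, ⊤) := by
  refine affine_local_of_selfLocal fun κ W hq hcov => ?_
  let Q : κ → ModPair.Pair.{u} := fun k =>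
    ⟨(W k : Scheme.{u}), P.mod.comap (W k).ι, isEffCartier_comap_flat P.isEffCartier _⟩
  let v : ∀ k, Q k ⟶ P := fun k => ⟨(W k).ι, le_rfl⟩
  obtain ⟨k, h, hh⟩ := hZ P κ Q v (fun k => ⟨rfl, (inferInstance : IsOpenImmersion (W k).ι), hq k⟩)
    (fun x => by
      obtain ⟨k, hk⟩ := Opens.mem_iSup.1 (hcov.ge (trivial : x ∈ (⊤ : P.total.Opens)))
      exact ⟨k, ⟨x, hk⟩, rfl⟩) (𝟙 P)
  refine ⟨k, eq_top_iff.2 fun x _ => ?_⟩
  have e : h.hom ≫ (W k).ι = 𝟙 P.total := congrArg ModPair.Pair.Hom.hom hh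
  have := (h.hom.base x).2
  rwa [show ((h.hom.base x).1 : P.total) = x from by
    show (h.hom ≫ (W k).ι).base x = x
    rw [e]; rfl] at this

variable (P : ModPair.Pair.{u}) [IsAffine P.total] [IsLocalRing Γ(P.total, ⊤)]

/-- The modulus of a local pair is principal. -/
theorem exists_gen : ∃ f : Γ(P.total, ⊤), f ∈ nonZeroDivisors Γ(P.total, ⊤) ∧
    P.mod.ideal ⟨⊤, isAffineOpen_top P.total⟩ = Ideal.span {f} ∧ ModPair.interior P.mod = P.total.basicOpen f := by
  obtain ⟨c, hc⟩ := exists_closed_center P.total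
  obtain ⟨⟨U, hU⟩, hcU, f, hf0, hf⟩ := P.isEffCartier c
  obtain rfl := hc U hcU
  refine ⟨f, hf0, hf, ?_⟩
  rw [← DivPts.compl_inf_eq_basicOpen P.mod ⟨⊤, hU⟩ hf, inf_top_eq]
  rfl

/-- Lifting along admissible blow-ups makes finitely generated admissible ideals principal. -/
theorem dvd_of_blowUp
    (hB : ∀ (Q X : ModPair.Pair.{u}) (q : Q ⟶ X), ModPair.Pair.admBlowup q →
        ∀ g : P ⟶ X, ∃ h : P ⟶ Q, h ≫ q = g)
    {f : Γ(P.total, ⊤)} (hf0 : f ∈ nonZeroDivisors Γ(P.total, ⊤))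
    (hU : ModPair.interior P.mod = P.total.basicOpen f) (x y : Γ(P.total, ⊤)) {n : ℕ}
    (hn : f ^ n ∈ Ideal.span {x, y}) : x ∣ y ∨ y ∣ x := by
  let J : Ideal Γ(P.total, ⊤) := Ideal.span {x, y}
  let F : P.total.IdealSheafData := Scheme.IdealSheafData.ofIdealTop J
  have hFtop : F.ideal ⟨⊤, isAffineOpen_top P.total⟩ = J := by simp [F]
  have hFfg : BlowUp.IsFiniteTypeIdeal F := fun V => by
    rw [Scheme.IdealSheafData.ofIdealTop_ideal]
    refine Ideal.FG.map ?_ _
    classical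
    exact ⟨({x, y} : Finset Γ(P.total, ⊤)), by simp [J]⟩
  have hle : ModPair.interior P.mod ≤ ModPair.interior F := by
    intro z hz hzF
    rw [hU] at hz
    rcases Nat.eq_zero_or_pos n with rfl | hpos
    · have := (Scheme.mem_zeroLocus_iff _ _ _).1
        ((Scheme.IdealSheafData.mem_support_iff_of_mem (U := ⟨⊤, isAffineOpen_top _⟩) trivial).1 hzF) 1
        (hFtop.ge (by simpa using hn))
      exact this (by rw [Scheme.basicOpen_of_isUnit P.total isUnit_one]; trivial)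
    · refine (Scheme.mem_zeroLocus_iff _ _ _).1
        ((Scheme.IdealSheafData.mem_support_iff_of_mem (U := ⟨⊤, isAffineOpen_top _⟩) trivial).1 hzF) (f ^ n)
        (hFtop.ge hn) ?_
      rw [Scheme.basicOpen_pow _ _ hpos]; exact hz
  obtain ⟨Y, b, hb⟩ := BlowExist.exists_isBlowUp F
  haveI := std_interior P.isEffCartier
  haveI := isAffineHom_interior P.isEffCartier
  haveI : IsSchemeTheoreticallyDominant (b ⁻¹ᵁ ModPair.interior P.mod).ι := std_preimage_blowUp hb hle
  haveI := BlowExist.isProper_of_isBlowUp hFfg hb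
  let Q : ModPair.Pair.{u} := ⟨Y, P.mod.comap b, isEffCartier_comap P.isEffCartier b⟩
  have hq : ModPair.Pair.admBlowup (⟨b, le_rfl⟩ : Q ⟶ P) := by
    refine ⟨rfl, inferInstanceAs (IsProper b), ?_⟩
    haveI : IsIso (b ∣_ ModPair.interior F) := S1682.result F b hb
    have h := IsPullback.of_bot (v₁₂ := P.total.homOfLE hle) (v₂₂ := (ModPair.interior F).ι)
      (v₁₁ := Y.homOfLE (b.preimage_mono hle)) (v₂₁ := (b ⁻¹ᵁ ModPair.interior F).ι)
      (h₁₁ := b ∣_ ModPair.interior P.mod) (h₂₁ := b ∣_ ModPair.interior F) (h₃₁ := b)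
      (by rw [Y.homOfLE_ι, P.total.homOfLE_ι]; exact isPullback_morphismRestrict b _)
      (by rw [← cancel_mono (ModPair.interior F).ι]; simp)
      (isPullback_morphismRestrict b (ModPair.interior F))
    exact MorphismProperty.of_isPullback (P := MorphismProperty.isomorphisms Scheme.{u}) h.flip
      (inferInstance : IsIso (b ∣_ ModPair.interior F))
  obtain ⟨h, hh⟩ := hB Q P _ hq (𝟙 P)
  have e : h.hom ≫ b = 𝟙 P.total := congrArg ModPair.Pair.Hom.hom hh
  obtain ⟨c, hc⟩ := exists_closed_center P.total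
  obtain ⟨V, hcV, d₀, -, hd₀⟩ := hb.1 (h.hom.base c)
  have hV : (⊤ : P.total.Opens) ≤ h.hom ⁻¹ᵁ V.1 := (hc _ hcV).ge
  have hspan : J = Ideal.span {(h.hom.appLE V.1 ⊤ hV).hom d₀} := by
    have := FpqcDescent.ideal_comap (F.comap b) h.hom V ⟨⊤, isAffineOpen_top _⟩ hV
    rw [← Scheme.IdealSheafData.comap_comp, e, Scheme.IdealSheafData.comap_id, hFtop, hd₀, Ideal.map_span,
      Set.image_singleton] at this
    exact this
  set d := (h.hom.appLE V.1 ⊤ hV).hom d₀
  obtain ⟨α, hα⟩ := Ideal.mem_span_singleton'.1 (hspan.le (Ideal.subset_span (by simp) : x ∈ J))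
  obtain ⟨β, hβ⟩ := Ideal.mem_span_singleton'.1 (hspan.le (Ideal.subset_span (by simp) : y ∈ J))
  obtain ⟨s, t, hst⟩ := Ideal.mem_span_pair.1 (hspan.ge (Ideal.mem_span_singleton_self d))
  obtain ⟨γ, hγ⟩ := Ideal.mem_span_singleton'.1 (hspan.le hn)
  have hd : d ∈ nonZeroDivisors Γ(P.total, ⊤) :=
    (mul_mem_nonZeroDivisors.1 (hγ.symm ▸ pow_mem hf0 n)).2
  have h1 : s * α + t * β = 1 := by
    refine ((isRegular_iff_mem_nonZeroDivisors.2 hd).right) ?_
    show (s * α + t * β) * d = 1 * d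
    rw [one_mul]
    conv_rhs => rw [← hst, ← hα, ← hβ]
    ring
  rcases IsLocalRing.isUnit_or_isUnit_of_add_one h1 with hu | hu
  · refine Or.inl ?_
    rw [← hα, ← hβ, (isUnit_of_mul_isUnit_right hu).mul_left_dvd]
    exact dvd_mul_left _ _
  · refine Or.inr ?_
    rw [← hα, ← hβ, (isUnit_of_mul_isUnit_right hu).mul_left_dvd]
    exact dvd_mul_left _ _

theorem mem_toSpecΓ {X : Scheme.{u}} (x : X) (a : Γ(X, ⊤)) :
    a ∈ (X.toSpecΓ.base x).asIdeal ↔ x ∉ X.basicOpen a := by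
  have h : x ∈ X.toSpecΓ ⁻¹ᵁ PrimeSpectrum.basicOpen a ↔ x ∈ X.basicOpen a := by rw [Scheme.toSpecΓ_preimage_basicOpen]
  exact ⟨fun ha hx => h.2 hx ha, fun hx => by by_contra ha; exact hx (h.1 ha)⟩

/-- The closed point of a local affine scheme is the centre. -/
theorem center_of_isClosed {U : Scheme.{u}} [IsAffine U] [IsLocalRing Γ(U, ⊤)] {p : U}
    (hp : IsClosed ({p} : Set U)) (V : U.Opens) (hV : p ∈ V) : V = ⊤ := by
  obtain ⟨c, hc⟩ := exists_closed_center U
  have hcp : c = p := by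
    by_contra hne
    exact (hc ⟨({p} : Set U)ᶜ, hp.isOpen_compl⟩ hne).ge (trivial : p ∈ (⊤ : U.Opens)) rfl
  exact hc V (hcp ▸ hV)

variable {P : ModPair.Pair.{u}} [IsAffine P.total] {f : Γ(P.total, ⊤)}

theorem isLocalRing_interior [IsLocalRing Γ(P.total, ⊤)] (hf0 : f ∈ nonZeroDivisors Γ(P.total, ⊤))
    (H : ∀ (x y : Γ(P.total, ⊤)) (n : ℕ), f ^ n ∈ Ideal.span {x, y} → x ∣ y ∨ y ∣ x) :
    IsLocalRing Γ(P.total, P.total.basicOpen f) := by
  haveI := (isAffineOpen_top P.total).isLocalization_basicOpen f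
  set ρ := algebraMap Γ(P.total, ⊤) Γ(P.total, P.total.basicOpen f)
  have hinj : Function.Injective ρ :=
    IsLocalization.injective _ (Submonoid.powers_le.2 hf0)
  haveI : Nontrivial Γ(P.total, P.total.basicOpen f) := hinj.nontrivial
  refine IsLocalRing.of_isUnit_or_isUnit_one_sub_self fun a => ?_
  obtain ⟨b, hb, hab⟩ : ∃ b, b = 1 - a ∧ a + b = 1 := ⟨_, rfl, by ring⟩
  rw [← hb]
  obtain ⟨i, x, hx⟩ := IsLocalization.Away.surj f a
  obtain ⟨j, y, hy⟩ := IsLocalization.Away.surj f b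
  have hu : ∀ k : ℕ, IsUnit (ρ f ^ k) := fun k => (IsLocalization.Away.algebraMap_isUnit f).pow k
  have hsum : x * f ^ j + y * f ^ i = f ^ (i + j) := by
    apply hinj
    rw [map_add, map_mul, map_mul, map_pow, map_pow, map_pow, ← hx, ← hy, pow_add]
    linear_combination (ρ f ^ i * ρ f ^ j) * hab
  have key : ∀ z w : Γ(P.total, ⊤), z + w = f ^ (i + j) → z ∣ w → IsUnit (ρ z) := fun z w hzw hd => by
    refine isUnit_of_dvd_unit (map_dvd ρ (hzw ▸ dvd_add dvd_rfl hd : z ∣ f ^ (i + j))) ?_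
    rw [map_pow]; exact hu _
  rcases H (x * f ^ j) (y * f ^ i) (i + j)
    (Ideal.mem_span_pair.2 ⟨1, 1, by rw [one_mul, one_mul]; exact hsum⟩) with h | h
  · left
    have := key _ _ hsum h
    rw [map_mul, map_pow, ← hx] at this
    exact isUnit_of_mul_isUnit_left (isUnit_of_mul_isUnit_left this)
  · right
    have := key _ _ ((add_comm _ _).trans hsum) h
    rw [map_mul, map_pow, ← hy] at this
    exact isUnit_of_mul_isUnit_left (isUnit_of_mul_isUnit_left this)

theorem exists_dvd_pow {y : Γ(P.total, ⊤)} (h : P.total.basicOpen f ≤ P.total.basicOpen y) :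
    ∃ N : ℕ, y ∣ f ^ N := by
  haveI := (isAffineOpen_top P.total).isLocalization_basicOpen f
  have hu : IsUnit (algebraMap Γ(P.total, ⊤) Γ(P.total, P.total.basicOpen f) y) :=
    isUnit_of_basicOpen_eq ((Scheme.basicOpen_res _ _ _).trans (inf_eq_left.2 h))
  obtain ⟨n, z, hz⟩ := IsLocalization.Away.surj f (↑hu.unit⁻¹ : Γ(P.total, P.total.basicOpen f))
  have he : algebraMap Γ(P.total, ⊤) Γ(P.total, P.total.basicOpen f) (y * z) = algebraMap _ _ (f ^ n) := by
    rw [map_mul, map_pow, ← hz, ← mul_assoc, IsUnit.mul_val_inv, one_mul]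
  obtain ⟨⟨_, m, rfl⟩, hm⟩ := (IsLocalization.eq_iff_exists (Submonoid.powers f) _).1 he
  exact ⟨m + n, z * f ^ m, by rw [pow_add]; simp only at hm; rw [← hm]; ring⟩

/-- Valuation quotient and bijection conditions at the closed point of the interior. -/
theorem valuation_conditions (hf0 : f ∈ nonZeroDivisors Γ(P.total, ⊤))
    (H : ∀ (x y : Γ(P.total, ⊤)) (n : ℕ), f ^ n ∈ Ideal.span {x, y} → x ∣ y ∨ y ∣ x)
    (𝔮 : Ideal Γ(P.total, ⊤)) [𝔮.IsPrime] (hq : ∀ y ∉ 𝔮, ∃ N : ℕ, y ∣ f ^ N) :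
    ValuationRing (Γ(P.total, ⊤) ⧸ 𝔮) ∧
      Set.BijOn (algebraMap Γ(P.total, ⊤) (Localization.AtPrime 𝔮)) (𝔮 : Set Γ(P.total, ⊤))
        (IsLocalRing.maximalIdeal (Localization.AtPrime 𝔮) : Set (Localization.AtPrime 𝔮)) := by
  have hdvd : ∀ x y, y ∉ 𝔮 → x ∣ y ∨ y ∣ x := fun x y hy => by
    obtain ⟨N, z, hz⟩ := hq y hy
    exact H x y N (Ideal.mem_span_pair.2 ⟨0, z, by rw [hz]; ring⟩)
  have hnzd : 𝔮.primeCompl ≤ nonZeroDivisors Γ(P.total, ⊤) := fun y hy => by
    obtain ⟨N, z, hz⟩ := hq y hy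
    exact (mul_mem_nonZeroDivisors.1 (hz ▸ pow_mem hf0 N)).1
  refine ⟨ValuationRing.iff_dvd_total.2 ⟨fun a b => ?_⟩, fun x hx =>
    (IsLocalization.AtPrime.to_map_mem_maximal_iff _ 𝔮 x).2 hx,
    (IsLocalization.injective _ hnzd).injOn, fun z hz => ?_⟩
  · obtain ⟨x, rfl⟩ := Ideal.Quotient.mk_surjective a
    obtain ⟨y, rfl⟩ := Ideal.Quotient.mk_surjective b
    by_cases hy : y ∈ 𝔮
    · exact Or.inl (by rw [Ideal.Quotient.eq_zero_iff_mem.2 hy]; exact dvd_zero _)
    · exact (hdvd x y hy).imp (map_dvd _) (map_dvd _)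
  · obtain ⟨⟨x, s⟩, hxs⟩ := IsLocalization.surj 𝔮.primeCompl z
    have hx : x ∈ 𝔮 := (IsLocalization.AtPrime.to_map_mem_maximal_iff (Localization.AtPrime 𝔮) 𝔮 x).1
      (hxs ▸ Ideal.mul_mem_right _ _ hz)
    rcases hdvd x s.1 s.2 with ⟨c, hc⟩ | ⟨c, hc⟩
    · exact absurd (hc ▸ Ideal.mul_mem_right c 𝔮 hx) s.2
    · refine ⟨c, (‹𝔮.IsPrime›.mem_or_mem (hc ▸ hx : (s : Γ(P.total, ⊤)) * c ∈ 𝔮)).resolve_left s.2, ?_⟩
      refine (IsLocalization.map_units (Localization.AtPrime 𝔮) s).mul_left_inj.1 ?_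
      rw [hxs, mul_comm, ← map_mul]
      exact congrArg _ hc.symm

theorem exists_ringHom_lift {A A' B : Type u} [CommRing A] [CommRing A'] [CommRing B] {ρ : A →+* A'}
    (hρ : Function.Injective ρ) (φ₀ : B →+* A') (h : ∀ b, φ₀ b ∈ ρ.range) : ∃ φ : B →+* A, ρ.comp φ = φ₀ := by
  let e := RingEquiv.ofBijective ρ.rangeRestrict
    ⟨fun a b hab => hρ (congrArg Subtype.val hab), ρ.rangeRestrict_surjective⟩
  exact ⟨e.symm.toRingHom.comp (φ₀.codRestrict ρ.range h), RingHom.ext fun b =>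
    congrArg Subtype.val (e.apply_symm_apply ⟨φ₀ b, h b⟩)⟩

theorem exists_specMap_fromSpec {X : Scheme.{u}} {V : X.Opens} (hV : IsAffineOpen V) {R : Type u} [CommRing R]
    (a : Spec (CommRingCat.of R) ⟶ X) (h : ∀ z, a z ∈ V) :
    ∃ φ : Γ(X, V) →+* R, Spec.map (CommRingCat.ofHom φ) ≫ hV.fromSpec = a := by
  have hr : Set.range a ⊆ Set.range hV.fromSpec := by
    rw [hV.range_fromSpec]; rintro _ ⟨z, rfl⟩; exact h z
  obtain ⟨φ, hφ⟩ := Spec.map_surjective (IsOpenImmersion.lift hV.fromSpec a hr)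
  exact ⟨φ.hom, by rw [CommRingCat.ofHom_hom, hφ, IsOpenImmersion.lift_fac]⟩

theorem fromSpec_inj {X : Scheme.{u}} {V : X.Opens} (hV : IsAffineOpen V) {R : Type u} [CommRing R]
    {φ ψ : Γ(X, V) →+* R}
    (h : Spec.map (CommRingCat.ofHom φ) ≫ hV.fromSpec = Spec.map (CommRingCat.ofHom ψ) ≫ hV.fromSpec) : φ = ψ :=
  congrArg CommRingCat.Hom.hom (Spec.map_injective ((cancel_mono hV.fromSpec).1 h))

theorem exists_lift_of_valuation {A A' : Type u} [CommRing A] [IsLocalRing A] [CommRing A'] [Algebra A A'] (f : A)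
    [IsLocalization.Away f A'] (hf0 : f ∈ nonZeroDivisors A) (𝔮 : Ideal A) [𝔮.IsPrime] (hfq : f ∉ 𝔮)
    [ValuationRing (A ⧸ 𝔮)]
    (hbij : Set.BijOn (algebraMap A (Localization.AtPrime 𝔮)) (𝔮 : Set A)
      (IsLocalRing.maximalIdeal (Localization.AtPrime 𝔮) : Set (Localization.AtPrime 𝔮)))
    (hq : ∀ y ∉ 𝔮, IsUnit (algebraMap A A' y))
    {Q X : Scheme.{u}} (q : Q ⟶ X) [IsProper q] (g : Spec (CommRingCat.of A) ⟶ X)
    (h₀ : Spec (CommRingCat.of A') ⟶ Q) (hh₀ : h₀ ≫ q = Spec.map (CommRingCat.ofHom (algebraMap A A')) ≫ g) :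
    ∃ h : Spec (CommRingCat.of A) ⟶ Q, h ≫ q = g := by
  set ρ := algebraMap A A'
  have hinj : Function.Injective ρ := IsLocalization.injective A' (Submonoid.powers_le.2 hf0)
  let R := A ⧸ 𝔮
  let K := FractionRing R
  let a : A →+* K := (algebraMap R K).comp (Ideal.Quotient.mk 𝔮)
  have ha : ∀ c, a c = 0 ↔ c ∈ 𝔮 := fun c => by
    rw [← Ideal.Quotient.eq_zero_iff_mem]
    exact map_eq_zero_iff (algebraMap R K) (IsFractionRing.injective R K)
  have hfu : IsUnit (a f) := isUnit_iff_ne_zero.2 fun h => hfq ((ha f).1 h)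
  let τ : A' →+* K := IsLocalization.Away.lift f hfu
  have hτ : τ.comp ρ = a := IsLocalization.Away.lift_comp f hfu
  have hker : ∀ z, τ z ≠ 0 → IsUnit z := fun z hz => by
    obtain ⟨n, c, hc⟩ := IsLocalization.Away.surj f z
    have hu : IsUnit (ρ f ^ n) := (IsLocalization.Away.algebraMap_isUnit f).pow n
    refine isUnit_of_mul_isUnit_left (y := ρ f ^ n) (hc ▸ hq c fun hcq => hz ?_)
    have h' : τ z * τ (ρ f ^ n) = 0 := by
      rw [← map_mul, hc, ← RingHom.comp_apply, hτ]; exact (ha c).2 hcq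
    exact (hu.map τ).mul_left_eq_zero.1 h'
  have hcomm : (Spec.map (CommRingCat.ofHom τ) ≫ h₀) ≫ q =
      Spec.map (CommRingCat.ofHom (algebraMap R K)) ≫ Spec.map (CommRingCat.ofHom (Ideal.Quotient.mk 𝔮)) ≫ g := by
    rw [Category.assoc, hh₀, ← Category.assoc, ← Category.assoc, ← Spec.map_comp, ← Spec.map_comp,
      ← CommRingCat.ofHom_comp, ← CommRingCat.ofHom_comp, hτ]
  have hex : ValuativeCriterion.Existence q :=
    ((congrFun (congrFun (congrFun UniversallyClosed.eq_valuativeCriterion Q) X) q).mp inferInstance).1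
  obtain ⟨⟨⟨l, hl₁, hl₂⟩⟩⟩ := hex
    { R := R, K := K, i₁ := Spec.map (CommRingCat.ofHom τ) ≫ h₀
      i₂ := Spec.map (CommRingCat.ofHom (Ideal.Quotient.mk 𝔮)) ≫ g, commSq := ⟨hcomm⟩ }
  dsimp only at hl₁ hl₂
  set cR := IsLocalRing.closedPoint R
  obtain ⟨W, hW, hcW, -⟩ := exists_isAffineOpen_mem_and_subset (U := (⊤ : X.Opens))
    (x := g (IsLocalRing.closedPoint A)) trivial
  have hclosed : q (l cR) = g (IsLocalRing.closedPoint A) := by
    haveI : IsLocalHom (Ideal.Quotient.mk 𝔮) := IsLocalHom.of_surjective _ Ideal.Quotient.mk_surjective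
    rw [← Scheme.Hom.comp_apply, hl₂, Scheme.Hom.comp_apply]
    exact congrArg g (IsLocalRing.comap_closedPoint (Ideal.Quotient.mk 𝔮))
  obtain ⟨V, hV, hlV, hVW⟩ := exists_isAffineOpen_mem_and_subset (U := q ⁻¹ᵁ W) (x := l cR)
    (show q (l cR) ∈ W from hclosed ▸ hcW)
  have hlall : ∀ z, l z ∈ V := fun z =>
    ((IsLocalRing.specializes_closedPoint z).map l.continuous).mem_open V.isOpen hlV
  have h₀all : ∀ z, h₀ z ∈ V := fun z => by
    let k : PrimeSpectrum K := ⊥
    have hk : h₀ (Spec.map (CommRingCat.ofHom τ) k) ∈ V := by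
      rw [← Scheme.Hom.comp_apply, ← hl₁, Scheme.Hom.comp_apply]
      exact hlall _
    refine (Specializes.map ?_ h₀.continuous).mem_open V.isOpen hk
    refine (PrimeSpectrum.le_iff_specializes z (PrimeSpectrum.comap τ k)).1 fun y hy => ?_
    show τ y ∈ (⊥ : Ideal K)
    by_contra hne
    exact z.isPrime.ne_top (Ideal.eq_top_of_isUnit_mem _ hy (hker y fun h => hne (by rw [h]; exact zero_mem _)))
  obtain ⟨φ₀, hφ₀⟩ := exists_specMap_fromSpec hV h₀ h₀all
  obtain ⟨φR, hφR⟩ := exists_specMap_fromSpec hV l hlall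
  have hcompat : τ.comp φ₀ = (algebraMap R K).comp φR := fromSpec_inj hV (by
    rw [CommRingCat.ofHom_comp, CommRingCat.ofHom_comp, Spec.map_comp, Spec.map_comp, Category.assoc,
      Category.assoc, hφ₀, hφR, hl₁])
  obtain ⟨φ, hφ⟩ := exists_ringHom_lift hinj φ₀ fun b => by
    obtain ⟨r, hr⟩ := Ideal.Quotient.mk_surjective (φR b)
    obtain ⟨n, c, hc⟩ := IsLocalization.Away.surj f (φ₀ b - ρ r)
    have hc𝔮 : c ∈ 𝔮 := by
      have e1 : τ (φ₀ b) = algebraMap R K (φR b) := RingHom.congr_fun hcompat b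
      have e2 : τ (ρ r) = algebraMap R K (Ideal.Quotient.mk 𝔮 r) := RingHom.congr_fun hτ r
      rw [← ha, ← hτ, RingHom.comp_apply, ← hc, map_mul, map_sub, e1, e2, hr, sub_self, zero_mul]
    have hfn : f ^ n ∈ 𝔮.primeCompl := fun h => hfq (‹𝔮.IsPrime›.mem_of_pow_mem n h)
    obtain ⟨c', hc'q, hc'⟩ := hbij.2.2 (show IsLocalization.mk' (Localization.AtPrime 𝔮) c ⟨f ^ n, hfn⟩ ∈
      (IsLocalRing.maximalIdeal (Localization.AtPrime 𝔮) : Set (Localization.AtPrime 𝔮)) from
        (IsLocalization.AtPrime.mk'_mem_maximal_iff (Localization.AtPrime 𝔮) 𝔮 c ⟨f ^ n, hfn⟩).2 hc𝔮)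
    have heq : c = f ^ n * c' := by
      refine hbij.2.1 hc𝔮 (Ideal.mul_mem_left _ _ hc'q) ?_
      rw [map_mul, hc']
      exact (IsLocalization.mk'_spec' (Localization.AtPrime 𝔮) c ⟨f ^ n, hfn⟩).symm
    refine ⟨r + c', ?_⟩
    have h1 : (φ₀ b - ρ r) * ρ f ^ n = ρ c' * ρ f ^ n := by
      rw [hc, heq, map_mul, map_pow, mul_comm]
    rw [map_add, ← ((IsLocalization.Away.algebraMap_isUnit f).pow n).mul_left_inj.1 h1, add_sub_cancel]
  refine ⟨Spec.map (CommRingCat.ofHom φ) ≫ hV.fromSpec, ?_⟩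
  obtain ⟨β, hβ⟩ := exists_specMap_fromSpec hW g fun z =>
    ((IsLocalRing.specializes_closedPoint z).map g.continuous).mem_open W.isOpen hcW
  obtain ⟨α, hα⟩ := exists_specMap_fromSpec hW ((Spec.map (CommRingCat.ofHom φ) ≫ hV.fromSpec) ≫ q) fun z => by
    rw [Scheme.Hom.comp_apply, Scheme.Hom.comp_apply]
    exact hVW (hV.range_fromSpec.le (Set.mem_range_self _))
  have hαβ : ρ.comp α = ρ.comp β := fromSpec_inj hW (by
    rw [CommRingCat.ofHom_comp, CommRingCat.ofHom_comp, Spec.map_comp, Spec.map_comp, Category.assoc,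
      Category.assoc, hα, hβ, ← hh₀, ← Category.assoc, ← Category.assoc, ← Spec.map_comp,
      ← CommRingCat.ofHom_comp, hφ, hφ₀])
  rw [← hα, ← hβ, RingHom.ext fun w => hinj (RingHom.congr_fun hαβ w)]

theorem exists_lift_admBlowup [IsLocalRing Γ(P.total, ⊤)] [IsAffine (ModPair.interior P.mod : Scheme.{u})]
    [IsLocalRing Γ((ModPair.interior P.mod : Scheme.{u}), ⊤)]
    (hval : ∀ p : (ModPair.interior P.mod : Scheme.{u}),
        IsClosed ({p} : Set (ModPair.interior P.mod : Scheme.{u})) →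
          ValuationRing (Γ(P.total, ⊤) ⧸
            (P.total.toSpecΓ.base ((ModPair.interior P.mod).ι.base p)).asIdeal) ∧
          Set.BijOn (algebraMap Γ(P.total, ⊤) (Localization.AtPrime
              (P.total.toSpecΓ.base ((ModPair.interior P.mod).ι.base p)).asIdeal))
            ((P.total.toSpecΓ.base ((ModPair.interior P.mod).ι.base p)).asIdeal : Set Γ(P.total, ⊤))
            (IsLocalRing.maximalIdeal (Localization.AtPrime
              (P.total.toSpecΓ.base ((ModPair.interior P.mod).ι.base p)).asIdeal) :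
              Set (Localization.AtPrime
                (P.total.toSpecΓ.base ((ModPair.interior P.mod).ι.base p)).asIdeal)))
    {Q X : ModPair.Pair.{u}} (q : Q ⟶ X) (hq : ModPair.Pair.admBlowup q) (g : P ⟶ X) :
    ∃ h : P ⟶ Q, h ≫ q = g := by
  obtain ⟨f, hf0, -, hU⟩ := exists_gen P
  obtain ⟨c, hc⟩ := exists_closed_center (ModPair.interior P.mod : Scheme.{u})
  have hcl : IsClosed ({c} : Set (ModPair.interior P.mod : Scheme.{u})) :=
    isClosed_singleton_of_center hc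
  obtain ⟨hv, hb⟩ := hval c hcl
  obtain ⟨hmin, hprop, hiso⟩ := hq
  haveI := hprop
  haveI := hiso
  have hgI : ModPair.interior P.mod ≤ g.hom ⁻¹ᵁ ModPair.interior X.mod := interior_le_of_ambient g.cond
  let h₁ : (ModPair.interior P.mod : Scheme.{u}) ⟶ Q.total :=
    g.hom.resLE _ _ hgI ≫ inv (q.hom ∣_ ModPair.interior X.mod) ≫ (q.hom ⁻¹ᵁ ModPair.interior X.mod).ι
  have hh₁ : h₁ ≫ q.hom = (ModPair.interior P.mod).ι ≫ g.hom := by
    simp only [h₁, Category.assoc]
    rw [← morphismRestrict_ι, IsIso.inv_hom_id_assoc, Scheme.Hom.resLE_comp_ι]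
  clear_value h₁
  have hA : IsAffineOpen (P.total.basicOpen f) := (isAffineOpen_top P.total).basicOpen f
  let j := P.total.homOfLE hU.ge
  haveI := (isAffineOpen_top P.total).isLocalization_basicOpen f
  have hfs : Spec.map (CommRingCat.ofHom (algebraMap Γ(P.total, ⊤) Γ(P.total, P.total.basicOpen f))) ≫
      P.total.isoSpec.inv = hA.fromSpec := by
    rw [← IsAffineOpen.fromSpec_top]
    exact (isAffineOpen_top P.total).map_fromSpec hA (homOfLE le_top).op
  have hunit : ∀ y ∉ (P.total.toSpecΓ.base ((ModPair.interior P.mod).ι.base c)).asIdeal,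
      IsUnit (algebraMap Γ(P.total, ⊤) Γ(P.total, P.total.basicOpen f) y) := fun y hy => by
    have hy' : (ModPair.interior P.mod).ι.base c ∈ P.total.basicOpen y :=
      not_not.1 fun h => hy ((mem_toSpecΓ _ _).2 h)
    refine isUnit_of_basicOpen_eq ((Scheme.basicOpen_res _ _ _).trans (inf_eq_left.2 fun z hz => ?_))
    exact (hc ((ModPair.interior P.mod).ι ⁻¹ᵁ P.total.basicOpen y) hy').ge
      (x := (⟨z, hU.ge hz⟩ : (ModPair.interior P.mod : Scheme.{u}))) (Set.mem_univ _)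
  haveI := hv
  obtain ⟨h, hh⟩ := exists_lift_of_valuation f hf0
    (P.total.toSpecΓ.base ((ModPair.interior P.mod).ι.base c)).asIdeal
    (fun hfq => (mem_toSpecΓ _ _).1 hfq (hU.le c.2)) hb hunit q.hom (P.total.isoSpec.inv ≫ g.hom)
    (hA.isoSpec.inv ≫ j ≫ h₁) (by
      rw [← Category.assoc (f := Spec.map _)]
      erw [hfs]
      simp only [Category.assoc, hh₁, j, Scheme.homOfLE_ι_assoc]
      rfl)
  refine ⟨⟨P.total.isoSpec.hom ≫ h, ?_⟩, ModPair.Pair.Hom.ext ?_⟩
  · have e : (P.total.isoSpec.hom ≫ h) ≫ q.hom = g.hom := by rw [Category.assoc, hh, Iso.hom_inv_id_assoc]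
    show _ ≤ _
    rw [show Q.mod = X.mod.comap q.hom from hmin, ← Scheme.IdealSheafData.comap_comp, e]
    exact g.cond
  · show (P.total.isoSpec.hom ≫ h) ≫ q.hom = g.hom
    rw [Category.assoc, hh, Iso.hom_inv_id_assoc]

theorem interior_of_local [IsLocalRing Γ(P.total, ⊤)]
    (hB : ∀ (Q X : ModPair.Pair.{u}) (q : Q ⟶ X), ModPair.Pair.admBlowup q →
        ∀ g : P ⟶ X, ∃ h : P ⟶ Q, h ≫ q = g) :
    IsAffine (ModPair.interior P.mod : Scheme.{u}) ∧
      IsLocalRing Γ((ModPair.interior P.mod : Scheme.{u}), ⊤) ∧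
      ∀ p : (ModPair.interior P.mod : Scheme.{u}),
        IsClosed ({p} : Set (ModPair.interior P.mod : Scheme.{u})) →
          ValuationRing (Γ(P.total, ⊤) ⧸
            (P.total.toSpecΓ.base ((ModPair.interior P.mod).ι.base p)).asIdeal) ∧
          Set.BijOn (algebraMap Γ(P.total, ⊤) (Localization.AtPrime
              (P.total.toSpecΓ.base ((ModPair.interior P.mod).ι.base p)).asIdeal))
            ((P.total.toSpecΓ.base ((ModPair.interior P.mod).ι.base p)).asIdeal : Set Γ(P.total, ⊤))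
            (IsLocalRing.maximalIdeal (Localization.AtPrime
              (P.total.toSpecΓ.base ((ModPair.interior P.mod).ι.base p)).asIdeal) :
              Set (Localization.AtPrime
                (P.total.toSpecΓ.base ((ModPair.interior P.mod).ι.base p)).asIdeal)) := by
  obtain ⟨f, hf0, -, hU⟩ := exists_gen P
  have H := fun x y n => dvd_of_blowUp P hB hf0 hU x y (n := n)
  revert hU
  generalize ModPair.interior P.mod = U
  rintro rfl
  haveI : IsAffine (P.total.basicOpen f : Scheme.{u}) := (isAffineOpen_top P.total).basicOpen f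
  haveI := isLocalRing_interior hf0 H
  haveI : IsLocalRing Γ((P.total.basicOpen f : Scheme.{u}), ⊤) :=
    (P.total.basicOpen f).topIso.symm.commRingCatIsoToRingEquiv.isLocalRing
  refine ⟨inferInstance, inferInstance, fun p hp => valuation_conditions hf0 H _ fun y hy => ?_⟩
  refine exists_dvd_pow fun z hz => ?_
  have hpy : (P.total.basicOpen f).ι.base p ∈ P.total.basicOpen y := not_not.1 fun h => hy ((mem_toSpecΓ _ _).2 h)
  exact (center_of_isClosed hp ((P.total.basicOpen f).ι ⁻¹ᵁ P.total.basicOpen y) hpy).ge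
    (x := (⟨z, hz⟩ : (P.total.basicOpen f : Scheme.{u}))) (Set.mem_univ _)

end Groth.Agent.ModPairLib
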