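import Groth.Agent.ModPairLib.AmbExist
import Groth.Agent.S18738
import Mathlib.CategoryTheory.Localization.CalculusOfFractions
import Mathlib.RingTheory.Localization.Finiteness

/-!
Refinement of a test pair by an admissible blow-up, pullbacks in the localization of modulus pairs.
-/

set_option autoImplicit false
set_option maxHeartbeats 800000
universe u

open CategoryTheory Limits AlgebraicGeometry

namespace Groth.Agent.ModPairLib

variable {X S T W : Scheme.{u}}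

theorem isFiniteTypeIdeal_sup {I J : X.IdealSheafData} (hI : BlowUp.IsEffCartierIdeal I)
    (hJ : BlowUp.IsEffCartierIdeal J) : BlowUp.IsFiniteTypeIdeal (I ⊔ J) := by
  intro V
  have key : ∀ x : V.1, ∃ g : Γ(X, V.1), x.1 ∈ X.basicOpen g ∧ ((I ⊔ J).ideal (X.affineBasicOpen g)).FG := by
    intro x
    obtain ⟨V₁, hx₁, hle₁, H₁⟩ := exists_span hI x.1 V.1 x.2
    obtain ⟨V₂, hx₂, -, H₂⟩ := exists_span hJ x.1 V₁.1 hx₁
    obtain ⟨g, hg, hxg⟩ := V.2.exists_basicOpen_le (V := V₁.1 ⊓ V₂.1) ⟨x.1, ⟨hx₁, hx₂⟩⟩ x.2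
    obtain ⟨a, ha⟩ := H₁ (X.affineBasicOpen g) (hg.trans inf_le_left)
    obtain ⟨b, hb⟩ := H₂ (X.affineBasicOpen g) (hg.trans inf_le_right)
    refine ⟨g, hxg, ?_⟩
    rw [Scheme.IdealSheafData.ideal_sup, Pi.sup_apply, ha, hb]
    exact Submodule.FG.sup (Submodule.fg_span_singleton a) (Submodule.fg_span_singleton b)
  choose g hg hfg using key
  refine Ideal.fg_of_localizationSpan (Set.range g) ((V.2.iSup_basicOpen_eq_self_iff).1 ?_) ?_
  · refine le_antisymm (iSup_le fun f => X.basicOpen_le _) fun x hx => ?_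
    exact TopologicalSpace.Opens.mem_iSup.2 ⟨⟨g ⟨x, hx⟩, _, rfl⟩, hg ⟨x, hx⟩⟩
  · rintro ⟨_, x, rfl⟩
    have hfg' := hfg x
    rw [← (I ⊔ J).map_ideal_basicOpen V (g x)] at hfg'
    haveI := V.2.isLocalization_basicOpen (g x)
    let e : Γ(X, X.basicOpen (g x)) ≃ₐ[Γ(X, V.1)] Localization.Away (g x) :=
      IsLocalization.algEquiv (Submonoid.powers (g x)) _ _
    have := hfg'.map e.toAlgHom.toRingHom
    refine (congrArg Ideal.FG ?_).mp this
    exact (Ideal.map_map _ _).trans (congrArg (fun φ => Ideal.map φ _) e.toAlgHom.comp_algebraMap)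

/-- Blowing up a test pair in the sum of two pulled back moduli is an admissible blow-up. -/
theorem exists_refine {I : X.IdealSheafData} {J : T.IdealSheafData} {IW : W.IdealSheafData}
    (hI : BlowUp.IsEffCartierIdeal I) (hJ : BlowUp.IsEffCartierIdeal J)
    (hW : BlowUp.IsEffCartierIdeal IW) {b : W ⟶ X} {a : W ⟶ T}
    (hb : ModPair.IsAmbient IW I b) (ha : ModPair.IsAmbient IW J a) :
    ∃ (W' : Scheme.{u}) (σ : W' ⟶ W), ModPair.IsAdmBlowup (IW.comap σ) IW σ ∧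
      BlowUp.IsEffCartierIdeal (IW.comap σ) ∧ BlowUp.IsEffCartierIdeal (I.comap (σ ≫ b) ⊔ J.comap (σ ≫ a)) := by
  have hI' := isEffCartier_comap_of_ambient hW hI hb
  have hJ' := isEffCartier_comap_of_ambient hW hJ ha
  obtain ⟨W', σ, hσ, hprop⟩ := BlowExist.exists_isBlowUp_isProper _ (isFiniteTypeIdeal_sup hI' hJ')
  have hle : ModPair.interior IW ≤ ModPair.interior (I.comap b ⊔ J.comap a) :=
    interior_mono (le_sup_of_le_left hb)
  haveI := std_interior hW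
  haveI := isAffineHom_interior hW
  haveI : IsSchemeTheoreticallyDominant (σ ⁻¹ᵁ ModPair.interior IW).ι := std_preimage_blowUp hσ hle
  refine ⟨W', σ, ⟨rfl, hprop, ?_⟩, isEffCartier_comap hW σ, ?_⟩
  · haveI : IsIso (σ ∣_ ModPair.interior (I.comap b ⊔ J.comap a)) := S1682.result _ σ hσ
    exact isIso_restrict_of_isPullback (IsPullback.of_vert_isIso (⟨by simp⟩ : CommSq σ (𝟙 W') (𝟙 W) σ))
      (ModPair.interior (I.comap b ⊔ J.comap a)) (ModPair.interior IW) hle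
  · rw [Scheme.IdealSheafData.comap_comp, Scheme.IdealSheafData.comap_comp, ← Scheme.IdealSheafData.comap_sup]
    exact hσ.1

/-- Uniqueness of lifts to an ambient product. -/
theorem ambProd_hom_ext {f : X ⟶ S} {g : T ⟶ S} {I : X.IdealSheafData} {J : T.IdealSheafData} {Y : Scheme.{u}}
    {π : Y ⟶ ModPair.mprod f g I J} {K : Y.IdealSheafData} (hI : BlowUp.IsEffCartierIdeal I)
    (hJ : BlowUp.IsEffCartierIdeal J) (h : ModPair.IsAmbProd f g I J π K) {IW : W.IdealSheafData}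
    (hW : BlowUp.IsEffCartierIdeal IW) {c c' : W ⟶ Y} (hc : ModPair.IsAmbient IW K c)
    (h₁ : c ≫ π ≫ ModPair.mprodι f g I J ≫ pullback.fst f g = c' ≫ π ≫ ModPair.mprodι f g I J ≫ pullback.fst f g)
    (h₂ : c ≫ π ≫ ModPair.mprodι f g I J ≫ pullback.snd f g = c' ≫ π ≫ ModPair.mprodι f g I J ≫ pullback.snd f g) :
    c = c' := by
  have e : c ≫ π = c' ≫ π := by
    rw [← cancel_mono (ModPair.mprodι f g I J)]
    exact pullback.hom_ext (by simpa using h₁) (by simpa using h₂)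
  haveI := std_interior hW
  haveI : IsSchemeTheoreticallyDominant
      (c ⁻¹ᵁ ModPair.interior ((ModPair.prodCentre f g I J).comap π)).ι := by
    refine std_of_le ((interior_le_of_ambient hc).trans (c.preimage_mono ?_))
    rw [(ambProd_spec hI hJ h).2.2.2, interior_comap, Scheme.Hom.comp_preimage]
    refine π.preimage_mono ?_
    show mU f g I J ≤ _
    rw [mU_eq, ModPair.prodCentre, interior_sup]
    exact inf_le_left.trans le_sup_left
  have hg : BlowUp.IsEffCartierIdeal ((ModPair.prodCentre f g I J).comap (c ≫ π)) := by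
    rw [Scheme.IdealSheafData.comap_comp]
    exact isEffCartier_comap h.1.1 c
  obtain ⟨k, -, hk⟩ := h.1.2 W (c ≫ π) hg
  exact (hk c rfl).trans (hk c' e.symm).symm

section Localization

variable {P₀ X₀ T₀ : ModPair.Pair.{u}}

abbrev LQ : ModPair.Pair.{u} ⥤ (ModPair.Pair.admBlowup.{u}).Localization := (ModPair.Pair.admBlowup.{u}).Q

theorem isPullback_localization (f : X₀ ⟶ P₀) (g : T₀ ⟶ P₀) {Y : Scheme.{u}}
    (π : Y ⟶ ModPair.mprod f.hom g.hom X₀.mod T₀.mod) (K : Y.IdealSheafData)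
    (hY : ModPair.IsAmbProd f.hom g.hom X₀.mod T₀.mod π K) (hK : BlowUp.IsEffCartierIdeal K)
    (hX : ModPair.IsAmbient K X₀.mod (π ≫ ModPair.mprodι f.hom g.hom X₀.mod T₀.mod ≫ pullback.fst f.hom g.hom))
    (hT : ModPair.IsAmbient K T₀.mod (π ≫ ModPair.mprodι f.hom g.hom X₀.mod T₀.mod ≫ pullback.snd f.hom g.hom)) :
    IsPullback (LQ.map (ModPair.Pair.Hom.mk (P := ModPair.Pair.mk Y K hK) (Q := T₀)
          (π ≫ ModPair.mprodι f.hom g.hom X₀.mod T₀.mod ≫ pullback.snd f.hom g.hom) hT))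
      (LQ.map (ModPair.Pair.Hom.mk (P := ModPair.Pair.mk Y K hK) (Q := X₀)
          (π ≫ ModPair.mprodι f.hom g.hom X₀.mod T₀.mod ≫ pullback.fst f.hom g.hom) hX))
      (LQ.map g) (LQ.map f) := by
  haveI := S18738.result.{u}
  let W := ModPair.Pair.admBlowup.{u}
  let Y₀ : ModPair.Pair.{u} := ⟨Y, K, hK⟩
  let pT : Y₀ ⟶ T₀ := ⟨_, hT⟩
  let pX : Y₀ ⟶ X₀ := ⟨_, hX⟩
  have hsq : pT ≫ g = pX ≫ f := ModPair.Pair.Hom.ext <| by
    show (π ≫ _ ≫ pullback.snd f.hom g.hom) ≫ g.hom = (π ≫ _ ≫ pullback.fst f.hom g.hom) ≫ f.hom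
    simp [pullback.condition]
  have hcomm : LQ.map pT ≫ LQ.map g = LQ.map pX ≫ LQ.map f := by
    rw [← LQ.map_comp, ← LQ.map_comp, hsq]
  have key : ∀ (A : W.Localization) (a : A ⟶ LQ.obj T₀) (b : A ⟶ LQ.obj X₀), a ≫ LQ.map g = b ≫ LQ.map f →
      ∃! c : A ⟶ LQ.obj Y₀, c ≫ LQ.map pT = a ∧ c ≫ LQ.map pX = b := by
    intro A a b hab
    obtain ⟨Z, ⟨eZ⟩⟩ : ∃ Z, Nonempty (LQ.obj Z ≅ A) := (Localization.essSurj LQ W).mem_essImage A
    suffices H : ∀ (a : LQ.obj Z ⟶ LQ.obj T₀) (b : LQ.obj Z ⟶ LQ.obj X₀), a ≫ LQ.map g = b ≫ LQ.map f →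
        ∃! c : LQ.obj Z ⟶ LQ.obj Y₀, c ≫ LQ.map pT = a ∧ c ≫ LQ.map pX = b by
      obtain ⟨c, ⟨h₁, h₂⟩, hu⟩ := H (eZ.hom ≫ a) (eZ.hom ≫ b) (by simp [hab])
      refine ⟨eZ.inv ≫ c, ⟨by simp [h₁], by simp [h₂]⟩, fun c' hc' => ?_⟩
      rw [← hu (eZ.hom ≫ c') ⟨by simp [hc'.1], by simp [hc'.2]⟩, Iso.inv_hom_id_assoc]
    clear hab a b eZ A
    intro a b hab
    obtain ⟨φ, rfl⟩ := Localization.exists_rightFraction LQ W a
    haveI := Localization.inverts LQ W φ.s φ.hs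
    obtain ⟨ψ, hψ⟩ := Localization.exists_rightFraction LQ W (LQ.map φ.s ≫ b)
    haveI := Localization.inverts LQ W ψ.s ψ.hs
    have hψ' : LQ.map ψ.f = LQ.map (ψ.s ≫ φ.s) ≫ b := by
      rw [Functor.map_comp, Category.assoc, hψ, ψ.map_s_comp_map]
    have h0 : LQ.map (ψ.s ≫ φ.f ≫ g) = LQ.map (ψ.f ≫ f) := by
      simp only [Functor.map_comp, hψ', Category.assoc, ← hab, MorphismProperty.RightFraction.map_s_comp_map_assoc]
    obtain ⟨Z', t, ht, het⟩ := (MorphismProperty.map_eq_iff_precomp LQ W _ _).1 h0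
    let α : Z' ⟶ T₀ := t ≫ ψ.s ≫ φ.f
    let β : Z' ⟶ X₀ := t ≫ ψ.f
    have hw : β.hom ≫ f.hom = α.hom ≫ g.hom := by
      have := congrArg ModPair.Pair.Hom.hom (show (β ≫ f) = α ≫ g by simp [α, β, het])
      exact this
    obtain ⟨W', σ, hσ, hIW, hC⟩ := exists_refine X₀.isEffCartier T₀.isEffCartier Z'.isEffCartier β.cond α.cond
    let Z'' : ModPair.Pair.{u} := ⟨W', Z'.mod.comap σ, hIW⟩
    let τ : Z'' ⟶ Z' := ⟨σ, le_rfl⟩
    obtain ⟨c, ⟨hc₁, hc₂⟩, hcK, -, -⟩ := existsUnique_lift X₀.isEffCartier T₀.isEffCartier hY hIW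
      (τ ≫ β).hom (τ ≫ α).hom (by show (σ ≫ β.hom) ≫ f.hom = (σ ≫ α.hom) ≫ g.hom; simp [hw])
      (τ ≫ β).cond (τ ≫ α).cond hC
    let c₀ : Z'' ⟶ Y₀ := ⟨c, hcK⟩
    let s : Z'' ⟶ Z := τ ≫ t ≫ ψ.s ≫ φ.s
    haveI : IsIso (LQ.map τ) := Localization.inverts LQ W τ hσ
    haveI : IsIso (LQ.map t) := Localization.inverts LQ W t ht
    haveI : IsIso (LQ.map s) := by simp only [s, Functor.map_comp]; infer_instance
    have e₁ : c₀ ≫ pT = τ ≫ α := ModPair.Pair.Hom.ext hc₂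
    have e₂ : c₀ ≫ pX = τ ≫ β := ModPair.Pair.Hom.ext hc₁
    refine ⟨inv (LQ.map s) ≫ LQ.map c₀, ⟨?_, ?_⟩, ?_⟩
    · rw [Category.assoc, IsIso.inv_comp_eq, ← Functor.map_comp, e₁]
      simp [s, α, MorphismProperty.RightFraction.map_s_comp_map]
    · rw [Category.assoc, IsIso.inv_comp_eq, ← Functor.map_comp, e₂]
      simp [s, β, hψ']
    · intro c' hc'
      obtain ⟨ω, hω⟩ := Localization.exists_rightFraction LQ W (LQ.map s ≫ c')
      haveI := Localization.inverts LQ W ω.s ω.hs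
      have hω' : LQ.map ω.f = LQ.map ω.s ≫ LQ.map s ≫ c' := by
        rw [hω, ω.map_s_comp_map]
      have g₁ : LQ.map (ω.f ≫ pT) = LQ.map (ω.s ≫ c₀ ≫ pT) := by
        rw [e₁]
        simp [hω', hc'.1, s, α, MorphismProperty.RightFraction.map_s_comp_map]
      obtain ⟨Z₁, t₁, ht₁, het₁⟩ := (MorphismProperty.map_eq_iff_precomp LQ W _ _).1 g₁
      haveI : IsIso (LQ.map t₁) := Localization.inverts LQ W t₁ ht₁
      have g₂ : LQ.map (t₁ ≫ ω.f ≫ pX) = LQ.map (t₁ ≫ ω.s ≫ c₀ ≫ pX) := by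
        rw [e₂]
        simp [hω', hc'.2, s, β, hψ']
      obtain ⟨Z₂, t₂, ht₂, het₂⟩ := (MorphismProperty.map_eq_iff_precomp LQ W _ _).1 g₂
      haveI : IsIso (LQ.map t₂) := Localization.inverts LQ W t₂ ht₂
      have heq : t₂ ≫ t₁ ≫ ω.f = t₂ ≫ t₁ ≫ ω.s ≫ c₀ := by
        refine ModPair.Pair.Hom.ext (ambProd_hom_ext X₀.isEffCartier T₀.isEffCartier hY Z₂.isEffCartier
          (t₂ ≫ t₁ ≫ ω.f).cond ?_ ?_)
        · exact congrArg ModPair.Pair.Hom.hom (show (t₂ ≫ t₁ ≫ ω.f) ≫ pX = (t₂ ≫ t₁ ≫ ω.s ≫ c₀) ≫ pX by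
            simpa using het₂)
        · exact congrArg ModPair.Pair.Hom.hom (show (t₂ ≫ t₁ ≫ ω.f) ≫ pT = (t₂ ≫ t₁ ≫ ω.s ≫ c₀) ≫ pT by
            simpa using congrArg (t₂ ≫ ·) het₁)
      have := congrArg LQ.map heq
      simp only [Functor.map_comp, hω', cancel_epi] at this
      rw [IsIso.eq_inv_comp]
      exact this
  refine IsPullback.mk ⟨hcomm⟩ ⟨PullbackCone.IsLimit.mk _ (fun s => (key s.pt s.fst s.snd s.condition).choose)
    (fun s => (key s.pt s.fst s.snd s.condition).choose_spec.1.1)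
    (fun s => (key s.pt s.fst s.snd s.condition).choose_spec.1.2)
    (fun s m h₁ h₂ => (key s.pt s.fst s.snd s.condition).choose_spec.2 m ⟨h₁, h₂⟩)⟩

end Localization

end Groth.Agent.ModPairLib
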