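import Groth.Agent.ThickAffine.General
import Groth.Agent.ModPairLib.Refine

/-!
Finite type ideals cutting out the complement of a quasi-compact open.
-/

set_option autoImplicit false
universe u

open CategoryTheory Limits AlgebraicGeometry TopologicalSpace

namespace Groth.Agent.ModPairLib

variable {X : Scheme.{u}}

theorem exists_fg_support [CompactSpace X] [QuasiSeparatedSpace X] (V : X.Opens) (hV : IsCompact (V : Set X)) :
    ∃ F : X.IdealSheafData, BlowUp.IsFiniteTypeIdeal F ∧ ∀ x, x ∈ F.support ↔ x ∉ V := by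
  classical
  have hb : ∀ x : V, ∃ (A : X.affineOpens) (g : Γ(X, A.1)), x.1 ∈ X.basicOpen g ∧ X.basicOpen g ≤ V := fun x => by
    obtain ⟨A, hA, hxA, -⟩ := exists_isAffineOpen_mem_and_subset (U := (⊤ : X.Opens)) (x := x.1) trivial
    obtain ⟨g, hg, hxg⟩ := hA.exists_basicOpen_le (V := V) ⟨x.1, x.2⟩ hxA
    exact ⟨⟨A, hA⟩, g, hxg, hg⟩
  choose A g hxg hg using hb
  obtain ⟨t, ht⟩ := hV.elim_finite_subcover (fun x : V => (X.basicOpen (g x) : Set X))
    (fun x => (X.basicOpen (g x)).isOpen) fun x hx => Set.mem_iUnion.2 ⟨⟨x, hx⟩, hxg ⟨x, hx⟩⟩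
  let Z : Closeds X := V.compl
  let K := Scheme.IdealSheafData.vanishingIdeal Z
  have hgK : ∀ x, g x ∈ K.ideal (A x) := fun x => by
    show g x ∈ PrimeSpectrum.vanishingIdeal ((A x).2.fromSpec.base ⁻¹' (Z : Set X))
    rw [PrimeSpectrum.mem_vanishingIdeal]
    intro y hy
    by_contra hgy
    have hy' : y ∈ (A x).2.fromSpec ⁻¹ᵁ X.basicOpen (g x) := by
      rw [(A x).2.fromSpec_preimage_basicOpen]; exact hgy
    exact hy (hg x hy')
  obtain ⟨F, hle, hfg, hmem⟩ := ThickAffine.exists_fg_le_ker K.subschemeι (Fintype.card t)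
    (fun k => A ((Fintype.equivFin t).symm k).1) (fun k => g ((Fintype.equivFin t).symm k).1) fun k => by
      have h := hgK ((Fintype.equivFin t).symm k).1
      rw [← K.ker_subschemeι, Scheme.Hom.ker_apply, RingHom.mem_ker] at h
      exact h
  rw [Scheme.IdealSheafData.ker_subschemeι] at hle
  refine ⟨F, hfg, fun x => ⟨fun hx hxV => ?_, fun hx => ?_⟩⟩
  · obtain ⟨y, hy, hxy⟩ := Set.mem_iUnion₂.1 (ht hxV)
    obtain ⟨k, hk⟩ := (Fintype.equivFin t).symm.surjective ⟨y, hy⟩
    have hFy : g y ∈ F.ideal (A y) := by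
      have := hmem k
      rw [hk] at this
      exact this
    have := (Scheme.IdealSheafData.mem_support_iff_of_mem ((X.basicOpen_le (g y)) hxy)).1 hx
    exact (Scheme.mem_zeroLocus_iff _ _ _).1 this _ hFy hxy
  · refine Scheme.IdealSheafData.support_antitone hle ?_
    rw [← SetLike.mem_coe, Scheme.IdealSheafData.coe_support_vanishingIdeal]
    exact hx

end Groth.Agent.ModPairLib
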