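import Mathlib

/-!
Quasi-finiteness from polynomial relations with a coefficient outside a given prime.
-/

set_option autoImplicit false
universe u

open CategoryTheory Limits AlgebraicGeometry Polynomial TensorProduct

namespace Groth.Agent.ModPairLib

theorem quasiFinite_of_relations {A B : Type u} [CommRing A] [CommRing B] [Algebra A B] [Algebra.FiniteType A B]
    (h : ∀ (q : Ideal B) [q.IsPrime] (x : B), ∃ P : A[X], (∃ j, P.coeff j ∉ q.comap (algebraMap A B)) ∧
      aeval x P ∈ q) : Algebra.QuasiFinite A B := by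
  refine ⟨fun p _ => ?_⟩
  rw [Module.finite_iff_isArtinianRing, isArtinianRing_iff_isNoetherianRing_krullDimLE_zero]
  refine ⟨Algebra.FiniteType.isNoetherianRing p.ResidueField _, Ring.krullDimLE_zero_iff.2 fun Q hQ => ?_⟩
  haveI := hQ
  let φ : B →ₐ[A] p.Fiber B := Algebra.TensorProduct.includeRight
  let q : Ideal B := Q.comap φ.toRingHom
  haveI : q.IsPrime := Ideal.IsPrime.comap φ.toRingHom
  have hp : ∀ a : A, a ∈ p → a ∈ q.comap (algebraMap A B) := fun a ha => by
    show φ (algebraMap A B a) ∈ Q
    rw [φ.commutes, IsScalarTower.algebraMap_apply A p.ResidueField (p.Fiber B),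
      Ideal.algebraMap_residueField_eq_zero.2 ha, map_zero]
    exact Q.zero_mem
  haveI : Algebra.IsIntegral p.ResidueField (p.Fiber B ⧸ Q) := by
    let S := integralClosure p.ResidueField (p.Fiber B ⧸ Q)
    refine ⟨fun y => ?_⟩
    obtain ⟨y, rfl⟩ := Ideal.Quotient.mk_surjective y
    show Ideal.Quotient.mk Q y ∈ S
    induction y using TensorProduct.induction_on with
    | zero => rw [map_zero]; exact S.zero_mem
    | add a b ha hb => rw [map_add]; exact S.add_mem ha hb
    | tmul c x =>
      have hcx : (c ⊗ₜ[A] x : p.Fiber B) = algebraMap p.ResidueField (p.Fiber B) c * φ x := by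
        simp [φ, Algebra.TensorProduct.algebraMap_apply]
      rw [hcx, map_mul]
      refine S.mul_mem (S.algebraMap_mem c) ?_
      obtain ⟨P, ⟨j, hj⟩, hP⟩ := h q x
      refine (IsAlgebraic.isIntegral (K := p.ResidueField) ⟨P.map (algebraMap A p.ResidueField), fun h0 => hj (hp _ ?_), ?_⟩)
      · have := congrArg (fun f => Polynomial.coeff f j) h0
        simpa [Polynomial.coeff_map] using this
      · rw [aeval_map_algebraMap]
        let ψ : p.Fiber B →ₐ[A] p.Fiber B ⧸ Q := Ideal.Quotient.mkₐ A Q
        show aeval (ψ (φ x)) P = 0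
        rw [aeval_algHom_apply, aeval_algHom_apply]
        exact Ideal.Quotient.eq_zero_iff_mem.2 hP
  exact Ideal.Quotient.maximal_of_isField Q
    (isField_of_isIntegral_of_isField' (R := p.ResidueField) (Field.toIsField _))

theorem locallyQuasiFinite_of_relations {R : CommRingCat.{u}} {Y : Scheme.{u}} (f : Y ⟶ Spec R)
    [LocallyOfFiniteType f]
    (h : ∀ (B : Type u) [CommRing B] [Algebra R B] (e : Spec (CommRingCat.of B) ⟶ Y) [IsOpenImmersion e],
      e ≫ f = Spec.map (CommRingCat.ofHom (algebraMap R B)) → Algebra.FiniteType R B →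
      ∀ (q : Ideal B) [q.IsPrime] (x : B), ∃ P : R[X], (∃ j, P.coeff j ∉ q.comap (algebraMap R B)) ∧
        aeval x P ∈ q) : LocallyQuasiFinite f := by
  haveI : IsZariskiLocalAtSource @LocallyQuasiFinite :=
    HasRingHomProperty.instIsZariskiLocalAtSource (P := @LocallyQuasiFinite) (Q := RingHom.QuasiFinite)
  suffices H : ∀ (B : CommRingCat.{u}) (e : Spec B ⟶ Y) [IsOpenImmersion e], LocallyQuasiFinite (e ≫ f) from
    (IsZariskiLocalAtSource.iff_of_openCover (P := @LocallyQuasiFinite) Y.affineCover).2 fun i => @H _ (Y.affineCover.f i) (Y.affineCover.map_prop i)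
  intro B e _
  obtain ⟨φ, hφ⟩ := Spec.map_surjective (e ≫ f)
  have hft : LocallyOfFiniteType (Spec.map φ) := hφ ▸ inferInstanceAs (LocallyOfFiniteType (e ≫ f))
  suffices LocallyQuasiFinite (Spec.map φ) by rwa [hφ] at this
  rw [HasRingHomProperty.Spec_iff (P := @LocallyOfFiniteType)] at hft
  rw [HasRingHomProperty.Spec_iff (P := @LocallyQuasiFinite)]
  algebraize [φ.hom]
  exact quasiFinite_of_relations fun q _ x => h B e hφ.symm inferInstance q x

/-- A chart of a scheme over `Spec R` is quasi-finite over `K` if the base change to `K` is. -/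
theorem chart_quasiFinite {R : CommRingCat.{u}} {Y : Scheme.{u}} (f : Y ⟶ Spec R) (K : Type u) [CommRing K]
    [Algebra R K] [LocallyQuasiFinite (pullback.snd f (Spec.map (CommRingCat.ofHom (algebraMap R K))))]
    (B : Type u) [CommRing B] [Algebra R B] (e : Spec (CommRingCat.of B) ⟶ Y) [IsOpenImmersion e]
    (he : e ≫ f = Spec.map (CommRingCat.ofHom (algebraMap R B))) : Algebra.QuasiFinite K (K ⊗[R] B) := by
  let g := Spec.map (CommRingCat.ofHom (algebraMap R K))
  have h1 : LocallyQuasiFinite (pullback.snd (e ≫ f) g) := by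
    rw [← pullbackRightPullbackFstIso_inv_snd_snd f g e]
    infer_instance
  rw [he] at h1
  have h2 : LocallyQuasiFinite ((pullbackSpecIso R K B).inv ≫ pullback.fst g _) := by
    rw [← pullbackSymmetry_hom_comp_snd]
    infer_instance
  rw [pullbackSpecIso_inv_fst, HasRingHomProperty.Spec_iff (P := @LocallyQuasiFinite)] at h2
  exact RingHom.quasiFinite_algebraMap.1 h2

/-- An element of a quasi-finite algebra satisfies, modulo a prime, a relation with a coefficient outside
the prime. -/
theorem exists_relation {R T : Type u} [CommRing R] [CommRing T] [Algebra R T] [Algebra.QuasiFinite R T]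
    (q : Ideal T) [q.IsPrime] (t : T) :
    ∃ P : R[X], (∃ j, P.coeff j ∉ q.comap (algebraMap R T)) ∧ aeval t P ∈ q := by
  let p := q.comap (algebraMap R T)
  haveI : p.IsPrime := Ideal.IsPrime.comap _
  haveI : q.LiesOver p := ⟨rfl⟩
  let t' : p.Fiber T := (1 : p.ResidueField) ⊗ₜ[R] t
  obtain ⟨μ, hμm, hμ⟩ := Algebra.IsIntegral.isIntegral (R := p.ResidueField) t'
  obtain ⟨b, hb0, hbP⟩ := IsLocalization.integerNormalization_spec (nonZeroDivisors (R ⧸ p)) μ
  set P₀ := IsLocalization.integerNormalization (nonZeroDivisors (R ⧸ p)) μ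
  obtain ⟨P, hP⟩ := Polynomial.map_surjective (Ideal.Quotient.mk p) Ideal.Quotient.mk_surjective P₀
  have hmap : P.map (algebraMap R p.ResidueField) = Polynomial.C (algebraMap (R ⧸ p) p.ResidueField b) * μ := by
    rw [IsScalarTower.algebraMap_eq R (R ⧸ p) p.ResidueField, ← Polynomial.map_map, Ideal.Quotient.algebraMap_eq, hP]
    rw [hbP, ← IsScalarTower.algebraMap_smul p.ResidueField b μ, Polynomial.smul_eq_C_mul]
  refine ⟨P, ⟨μ.natDegree, fun hj => ?_⟩, ?_⟩
  · have := congrArg (fun f => Polynomial.coeff f μ.natDegree) hmap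
    simp only [Polynomial.coeff_map, Polynomial.coeff_C_mul, hμm.coeff_natDegree, mul_one] at this
    rw [Ideal.algebraMap_residueField_eq_zero.2 hj] at this
    exact nonZeroDivisors.ne_zero hb0
      (IsFractionRing.injective (R ⧸ p) p.ResidueField (this.symm.trans (map_zero _).symm))
  · have h0 : aeval t' P = 0 := by
      rw [← aeval_map_algebraMap p.ResidueField, hmap, map_mul, show aeval t' μ = 0 from hμ, mul_zero]
    let χ : p.Fiber T →ₐ[R] q.ResidueField :=
      Algebra.TensorProduct.lift (Ideal.ResidueField.mapₐ p q (Algebra.ofId R T) rfl)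
        (IsScalarTower.toAlgHom R T q.ResidueField) fun _ _ => mul_comm _ _
    have hχ : χ t' = algebraMap T q.ResidueField t := by
      show χ ((1 : p.ResidueField) ⊗ₜ[R] t) = _
      exact (Algebra.TensorProduct.lift_tmul _ _ _ _ _).trans (by rw [map_one, one_mul]; rfl)
    have := congrArg χ h0
    rw [map_zero, ← aeval_algHom_apply, hχ, aeval_algebraMap_apply] at this
    exact Ideal.algebraMap_residueField_eq_zero.1 this

/-- In a finite family of elements of a valuation ring one divides all the others. -/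
theorem exists_dvd_all {R : Type u} [CommRing R] [IsDomain R] [ValuationRing R] {ι : Type*} (s : Finset ι)
    (hs : s.Nonempty) (c : ι → R) : ∃ j ∈ s, ∀ i ∈ s, c j ∣ c i := by
  induction hs using Finset.Nonempty.cons_induction with
  | singleton a => exact ⟨a, Finset.mem_singleton_self a, fun i hi => by rw [Finset.mem_singleton.1 hi]⟩
  | cons a s ha hs ih =>
    obtain ⟨j, hj, hdvd⟩ := ih
    rcases ValuationRing.dvd_total (c a) (c j) with h | h
    · refine ⟨a, Finset.mem_cons_self a s, fun i hi => ?_⟩
      rcases Finset.mem_cons.1 hi with rfl | hi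
      exacts [dvd_rfl, h.trans (hdvd i hi)]
    · refine ⟨j, Finset.mem_cons.2 (Or.inr hj), fun i hi => ?_⟩
      rcases Finset.mem_cons.1 hi with rfl | hi
      exacts [h, hdvd i hi]

end Groth.Agent.ModPairLib
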