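import Groth.Agent.ModPairLib.Div
import Mathlib.RingTheory.Valuation.LocalSubring
import Mathlib.RingTheory.Spectrum.Prime.Topology

/-!
Valuation rings testing a nonzerodivisor.
-/

set_option autoImplicit false
set_option maxHeartbeats 800000
universe u

open CategoryTheory Limits AlgebraicGeometry

namespace Groth.Agent.ModPairLib

/-- If `f` is a nonzerodivisor and `P` is a prime containing `f`, some valuation ring sees `f` as a nonzero
element lying in every nonzero prime and sends `P` into the maximal ideal. -/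
theorem exists_valuation {A : Type u} [CommRing A] {f : A} (hf : f ∈ nonZeroDivisors A) (P : Ideal A)
    [P.IsPrime] (hfP : f ∈ P) :
    ∃ (R : Type u) (_ : CommRing R) (_ : IsDomain R) (_ : ValuationRing R) (φ : A →+* R),
      φ f ≠ 0 ∧ (∀ h ∈ P, φ h ∈ IsLocalRing.maximalIdeal R) ∧
      ∀ p : Ideal R, p.IsPrime → p ≠ ⊥ → φ f ∈ p := by
  obtain ⟨Q, hQ, hQP⟩ := Ideal.exists_minimalPrimes_le (I := (⊥ : Ideal A)) (J := P) bot_le
  haveI := hQ.1.1
  let K := FractionRing (A ⧸ Q)
  let ψ : A →+* K := (algebraMap (A ⧸ Q) K).comp (Ideal.Quotient.mk Q)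
  have hψ : ∀ a, ψ a = 0 ↔ a ∈ Q := fun a => by
    simp [ψ, Ideal.Quotient.eq_zero_iff_mem]
  let I : Ideal ψ.range := P.map ψ.rangeRestrict
  haveI : I.IsPrime := Ideal.map_isPrime_of_surjective ψ.rangeRestrict_surjective (fun a ha => hQP ((hψ a).1
    (congrArg Subtype.val ha)))
  obtain ⟨V, hV, hI⟩ := Ideal.image_subset_nonunits_valuationSubring I (Ideal.IsPrime.ne_top inferInstance)
  let φ₀ : A →+* V := ψ.codRestrict V.toSubring fun a => hV ⟨a, rfl⟩
  have hmax : ∀ h ∈ P, φ₀ h ∈ IsLocalRing.maximalIdeal V := fun h hh =>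
    ValuationSubring.coe_mem_nonunits_iff.1 (hI ⟨ψ.rangeRestrict h, Ideal.mem_map_of_mem _ hh, rfl⟩)
  have hf0 : φ₀ f ≠ 0 := fun h0 => by
    have : f ∈ Q := (hψ f).1 (congrArg Subtype.val h0)
    exact Set.disjoint_left.1 (Ideal.disjoint_nonZeroDivisors_of_mem_minimalPrimes hQ) this hf
  obtain ⟨q, hqp, -, hqd, hqm⟩ : ∃ q : Ideal V, q.IsPrime ∧ (⊥ : Ideal V) ≤ q ∧
      Disjoint (q : Set V) (Submonoid.powers (φ₀ f) : Set V) ∧
      ∀ p : Ideal V, q < p → ¬ Disjoint (p : Set V) (Submonoid.powers (φ₀ f) : Set V) := by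
    have hd : Disjoint ((⊥ : Ideal V) : Set V) (Submonoid.powers (φ₀ f) : Set V) := by
      rw [Set.disjoint_left]
      rintro x hx ⟨n, rfl⟩
      exact hf0 (pow_eq_zero_iff'.1 (Ideal.mem_bot.1 hx)).1
    obtain ⟨q, hq, hle, hdq, hm⟩ : ∃ q : Ideal V, q.IsPrime ∧ (⊥ : Ideal V) ≤ q ∧
        Disjoint (q : Set V) (Submonoid.powers (φ₀ f) : Set V) ∧ Maximal (fun p : Ideal V =>
          Disjoint (p : Set V) (Submonoid.powers (φ₀ f) : Set V)) q := by
      obtain ⟨q, hle, hm⟩ := zorn_le_nonempty₀ {p : Ideal V | Disjoint (p : Set V) (Submonoid.powers (φ₀ f) : Set V)}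
        (fun c hc hch y hy => ⟨sSup c, by
          rw [Set.mem_setOf_eq, Set.disjoint_left]
          intro x hx
          obtain ⟨p, hp, hxp⟩ := (Submodule.mem_sSup_of_directed ⟨y, hy⟩ hch.directedOn).1 hx
          exact Set.disjoint_left.1 (hc hp) hxp, fun _ => le_sSup⟩) ⊥ hd
      exact ⟨q, Ideal.isPrime_of_maximally_disjoint q _ hm.1 fun J hJ => hm.not_prop_of_gt hJ, hle, hm.1, hm⟩
    exact ⟨q, hq, hle, hdq, fun p hp => hm.not_prop_of_gt hp⟩
  haveI : ValuationRing (V ⧸ q) :=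
    { (Function.Surjective.preValuationRing (Ideal.Quotient.mk q).toMulHom Ideal.Quotient.mk_surjective) with }
  haveI : IsLocalHom (Ideal.Quotient.mk q) := IsLocalHom.of_surjective _ Ideal.Quotient.mk_surjective
  refine ⟨V ⧸ q, inferInstance, inferInstance, inferInstance, (Ideal.Quotient.mk q).comp φ₀, ?_, ?_, ?_⟩
  · exact fun h => Set.disjoint_left.1 hqd (Ideal.Quotient.eq_zero_iff_mem.1 h) (Submonoid.mem_powers _)
  · intro h hh
    rw [IsLocalRing.mem_maximalIdeal, mem_nonunits_iff]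
    exact fun hu => hmax h hh (isUnit_of_map_unit (Ideal.Quotient.mk q) (φ₀ h) hu)
  · intro p hp hp0
    have hlt : q < p.comap (Ideal.Quotient.mk q) := by
      refine lt_of_le_of_ne (fun x hx => Ideal.mem_comap.2 (by rw [Ideal.Quotient.eq_zero_iff_mem.2 hx]; exact p.zero_mem))
        fun h => hp0 ?_
      have := congrArg (Ideal.map (Ideal.Quotient.mk q)) h
      rwa [Ideal.map_quotient_self, Ideal.map_comap_of_surjective _ Ideal.Quotient.mk_surjective, eq_comm] at this
    obtain ⟨x, hx, n, rfl⟩ := Set.not_disjoint_iff.1 (hqm _ hlt)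
    exact hp.mem_of_pow_mem n (by simpa using hx)

end Groth.Agent.ModPairLib

namespace Groth.Agent.ModPairLib

variable {R : Type u} [CommRing R]

theorem topId_inj {a b : Ideal R} (h : BlowExist.topId a = BlowExist.topId b) : a = b := by
  have h' := congrArg (fun J => J.ideal ⟨⊤, isAffineOpen_top _⟩) h
  simp only [BlowExist.ideal_topId] at h'
  have := congrArg (Ideal.map (Scheme.ΓSpecIso (CommRingCat.of R)).hom.hom) h'
  have e : (Scheme.ΓSpecIso (CommRingCat.of R)).hom.hom.comp (Scheme.ΓSpecIso (CommRingCat.of R)).inv.hom =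
      RingHom.id R := congrArg CommRingCat.Hom.hom (Scheme.ΓSpecIso (CommRingCat.of R)).inv_hom_id
  rw [Ideal.map_map, Ideal.map_map, e, Ideal.map_id, Ideal.map_id] at this
  exact this

theorem topId_top : BlowExist.topId (⊤ : Ideal R) = ⊤ :=
  Scheme.IdealSheafData.ext_of_isAffine (by rw [BlowExist.ideal_topId, Ideal.map_top]; rfl)

theorem mem_interior_topId {a : R} (x : Spec (CommRingCat.of R)) :
    x ∈ ModPair.interior (BlowExist.topId (Ideal.span {a})) ↔ a ∉ x.asIdeal := by
  have h := DivPts.compl_inf_eq_basicOpen (BlowExist.topId (Ideal.span {a})) ⟨⊤, isAffineOpen_top _⟩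
    (f := (Scheme.ΓSpecIso (CommRingCat.of R)).inv.hom a) (by rw [BlowExist.ideal_topId, Ideal.map_span, Set.image_singleton])
  rw [inf_top_eq, AlgebraicGeometry.basicOpen_eq_of_affine] at h
  show x ∈ (BlowExist.topId (Ideal.span {a})).support.compl ↔ _
  rw [h]
  exact Iff.rfl

variable {X : Scheme.{u}}

theorem comap_chart {I : X.IdealSheafData} {V : X.affineOpens} {a : Γ(X, V.1)} (h : I.ideal V = Ideal.span {a})
    (φ : Γ(X, V.1) →+* R) :
    I.comap (Spec.map (CommRingCat.ofHom φ) ≫ V.2.fromSpec) = BlowExist.topId (Ideal.span {φ a}) := by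
  rw [Scheme.IdealSheafData.comap_comp, BlowExist.comap_fromSpec, BlowExist.comap_topId, h, Ideal.map_span,
    Set.image_singleton]

end Groth.Agent.ModPairLib

namespace Groth.Agent.ModPairLib

theorem mem_interior_chart {X : Scheme.{u}} {I : X.IdealSheafData} {V : X.affineOpens} {f : Γ(X, V.1)}
    (h : I.ideal V = Ideal.span {f}) (y : Spec Γ(X, V.1)) :
    V.2.fromSpec y ∈ ModPair.interior I ↔ f ∉ y.asIdeal := by
  rw [← mem_interior_topId, ← h, ← BlowExist.comap_fromSpec, interior_comap]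
  rfl

theorem isEffCartier_comap_chart {X : Scheme.{u}} {R : Type u} [CommRing R] [IsDomain R]
    {I : X.IdealSheafData} {V : X.affineOpens} {f : Γ(X, V.1)} (h : I.ideal V = Ideal.span {f})
    (φ : Γ(X, V.1) →+* R) (hφ : φ f ≠ 0) :
    BlowUp.IsEffCartierIdeal (I.comap (Spec.map (CommRingCat.ofHom φ) ≫ V.2.fromSpec)) := by
  rw [comap_chart h]
  exact BlowExist.isEffCartier_topId (mem_nonZeroDivisors_of_ne_zero hφ)

end Groth.Agent.ModPairLib
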